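import Cfsg.Agent.Lib.StrongFusion.Local
import Cfsg.Agent.Lib.StrongFusion.Sections
import Cfsg.Agent.Lib.StrongFusion.LocalFree
import Cfsg.Agent.Lib.WeakClosed.Reduce
import Cfsg.Agent.Lib.Transfer
import Mathlib.GroupTheory.Abelianization.Defs
import Mathlib.GroupTheory.Focal

/-!
Control of transfer by a set of isomorphism-invariant functors: the fusion descent, lifting from quotients and the
reduction to `[O_p(G), G]`.
-/

set_option autoImplicit false
set_option linter.unusedSectionVars false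

namespace CfsgLib.TransferControl

open CfsgLib Cfsg CfsgLib.StrongFusion
open scoped Pointwise commutatorElement

universe u

variable {X : Type u} [Group X] {p : ℕ} [hp : Fact p.Prime]

/-- The part of `S` controlled by the family. -/
def tr (𝔚 : Set (∀ (Q : Type u) [Group Q], Subgroup Q)) (S : Subgroup X) : Subgroup X :=
  ⨆ W ∈ 𝔚, S ⊓ ⁅Subgroup.normalizer (inducedFunctor W S : Set X), Subgroup.normalizer (inducedFunctor W S : Set X)⁆

/-- Transfer is controlled in `X`. -/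
def Ok (p : ℕ) (𝔚 : Set (∀ (Q : Type u) [Group Q], Subgroup Q)) (X : Type u) [Group X] : Prop :=
  ∀ S : Sylow p X, (S : Subgroup X) ⊓ commutator X ≤ tr 𝔚 (S : Subgroup X)

variable (𝔚 : Set (∀ (Q : Type u) [Group Q], Subgroup Q))

theorem tr_le (S : Subgroup X) : tr 𝔚 S ≤ S := iSup₂_le fun _ _ => inf_le_left

theorem tr_le_commutator (S : Subgroup X) : tr 𝔚 S ≤ S ⊓ commutator X :=
  iSup₂_le fun _ _ => inf_le_inf_left _ (Subgroup.commutator_mono le_top le_top)

variable {𝔚} [Finite X]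

theorem derived_le_tr {W : ∀ (Q : Type u) [Group Q], Subgroup Q} (hW : W ∈ 𝔚) (hW' : IsCharPFunctor p W)
    {S : Subgroup X} (hS : IsPGroup p S) : ⁅S, S⁆ ≤ tr 𝔚 S := by
  refine le_trans ?_ (le_iSup₂ (f := fun W _ => S ⊓ ⁅Subgroup.normalizer (inducedFunctor W S : Set X),
    Subgroup.normalizer (inducedFunctor W S : Set X)⁆) W hW)
  have h : S ≤ Subgroup.normalizer (inducedFunctor W S : Set X) :=
    Subgroup.le_normalizer.trans (normalizer_le_normalizer_induced hW' hS)
  exact le_inf (Subgroup.commutator_le_self S) (Subgroup.commutator_mono h h)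

theorem conj_mem_of_derived_le {S T : Subgroup X} (hTS : T ≤ S) (hd : ⁅S, S⁆ ≤ T) {s t : X} (hs : s ∈ S) (ht : t ∈ T) :
    s * t * s⁻¹ ∈ T := by
  rw [show s * t * s⁻¹ = ⁅s, t⁆ * t by simp only [commutatorElement_def]; group]
  exact mul_mem (hd (Subgroup.commutator_mem_commutator hs (hTS ht))) ht

/-- `g` fixes `A` modulo `T`. -/
def Fx (T A : Subgroup X) (g : X) : Prop := ∀ a ∈ A, ⁅g, a⁆ ∈ T

theorem Fx.mono {T A B : Subgroup X} {g : X} (h : Fx T A g) (hB : B ≤ A) : Fx T B g := fun b hb => h b (hB hb)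

theorem Fx.comp {T A : Subgroup X} {g h : X} (h1 : Fx T A g) (h2 : Fx T (cm g A) h) : Fx T A (h * g) := fun a ha => by
  have e : ⁅h * g, a⁆ = ⁅h, g * a * g⁻¹⁆ * ⁅g, a⁆ := by simp only [commutatorElement_def]; group
  rw [e]
  exact mul_mem (h2 _ (conj_mem_cm ha)) (h1 a ha)

theorem Fx.inv {T A : Subgroup X} {g : X} (h : Fx T A g) : Fx T (cm g A) g⁻¹ := by
  rintro _ ⟨a, ha, rfl⟩
  show ⁅g⁻¹, g * a * g⁻¹⁆ ∈ T
  rw [show ⁅g⁻¹, g * a * g⁻¹⁆ = ⁅g, a⁆⁻¹ by simp only [commutatorElement_def]; group]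
  exact inv_mem (h a ha)

theorem mem_of_fx {T : Subgroup X} {z y : X} (h : ⁅y, z⁆ ∈ T) (hy : y * z * y⁻¹ ∈ T) : z ∈ T := by
  have := mul_mem (inv_mem h) hy
  rwa [show ⁅y, z⁆⁻¹ * (y * z * y⁻¹) = z by simp only [commutatorElement_def]; group] at this

theorem conj_mem_commutator {L L' : Subgroup X} {y z : X} (hy : ∀ l ∈ L, y * l * y⁻¹ ∈ L') (hz : z ∈ ⁅L, L⁆) :
    y * z * y⁻¹ ∈ ⁅L', L'⁆ := by
  have h : (⁅L, L⁆).map (MulAut.conj y).toMonoidHom ≤ ⁅L', L'⁆ := by
    rw [Subgroup.map_commutator]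
    exact Subgroup.commutator_mono (Local.map_conj_le hy) (Local.map_conj_le hy)
  exact h ⟨z, hz, rfl⟩

/-- Induction hypothesis at a subgroup, read inside `X`. -/
theorem local_of_ok (h𝔚 : ∀ W ∈ 𝔚, IsCharPFunctor p W) {L T : Subgroup X} (hok : Ok p 𝔚 L) (hTL : T ≤ L)
    (hT : IsPGroup p T) (hidx : ¬ p ∣ T.relIndex L) :
    T ⊓ ⁅L, L⁆ ≤ ⨆ W ∈ 𝔚, T ⊓ ⁅L ⊓ Subgroup.normalizer (inducedFunctor W T : Set X),
      L ⊓ Subgroup.normalizer (inducedFunctor W T : Set X)⁆ := by
  set P : Sylow p L := (hT.of_equiv (Subgroup.subgroupOfEquivOfLe hTL).symm).toSylow hidx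
  have hP : (P : Subgroup L) = T.subgroupOf L := rfl
  have h := Subgroup.map_mono (f := L.subtype) (hok P)
  rw [hP, Subgroup.map_inf _ _ _ L.subtype_injective, Subgroup.map_subgroupOf_eq_of_le hTL, commutator_def,
    Subgroup.map_commutator, ← MonoidHom.range_eq_map, Subgroup.range_subtype] at h
  refine h.trans ?_
  rw [tr, Subgroup.map_iSup]
  refine iSup_le fun W => ?_
  rw [Subgroup.map_iSup]
  refine iSup_le fun hW => le_trans ?_ (le_iSup₂ (f := fun W _ => T ⊓ ⁅L ⊓ Subgroup.normalizer (inducedFunctor W T : Set X),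
    L ⊓ Subgroup.normalizer (inducedFunctor W T : Set X)⁆) W hW)
  rw [Subgroup.map_inf _ _ _ L.subtype_injective, Subgroup.map_subgroupOf_eq_of_le hTL, Subgroup.map_commutator]
  have hN : (Subgroup.normalizer (inducedFunctor W (T.subgroupOf L) : Set L)).map L.subtype ≤
      L ⊓ Subgroup.normalizer (inducedFunctor W T : Set X) := by
    refine le_inf (Subgroup.map_subtype_le _) ?_
    have e : (inducedFunctor W (T.subgroupOf L)).map L.subtype = inducedFunctor W T := by
      rw [← inducedFunctor_map (h𝔚 W hW) L.subtype (hT.of_equiv (Subgroup.subgroupOfEquivOfLe hTL).symm)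
        L.subtype_injective.injOn, Subgroup.map_subgroupOf_eq_of_le hTL]
    rw [← e]
    exact Subgroup.le_normalizer_map L.subtype
  exact inf_le_inf_left _ (Subgroup.commutator_mono hN hN)

/-- A proper overgroup of `S` contributes nothing new. -/
theorem over_le (h𝔚 : ∀ W ∈ 𝔚, IsCharPFunctor p W) (S : Sylow p X) {M : Subgroup X} (hok : Ok p 𝔚 M)
    (hSM : (S : Subgroup X) ≤ M) : (S : Subgroup X) ⊓ ⁅M, M⁆ ≤ tr 𝔚 (S : Subgroup X) := by
  refine (local_of_ok h𝔚 hok hSM S.2
    (fun hd => S.not_dvd_index (hd.trans (Subgroup.relIndex_dvd_index_of_le hSM)))).trans ?_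
  exact iSup₂_mono fun W _ => inf_le_inf_left _ (Subgroup.commutator_mono inf_le_right inf_le_right)

/-- The descent along well-placed subgroups. -/
theorem fx_of_local (S : Sylow p X) (h𝔚 : ∀ W ∈ 𝔚, IsCharPFunctor p W) (hsub : ∀ H : Subgroup X, H ≠ ⊤ → Ok p 𝔚 H)
    (hcore : pCore p X = ⊥) {A : Subgroup X} (hA : A ≤ (S : Subgroup X)) {g : X}
    (hg : cm g A ≤ (S : Subgroup X)) : Fx (tr 𝔚 (S : Subgroup X)) A g := by
  induction hk : Nat.card X - Nat.card A using Nat.strong_induction_on generalizing A g with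
  | h k ih =>
  subst hk
  set P : Subgroup X := (S : Subgroup X)
  set T := tr 𝔚 P
  rcases eq_or_ne A ⊥ with rfl | hA0
  · intro a ha
    rw [Subgroup.mem_bot.1 ha, commutatorElement_one_right]; exact one_mem _
  have big : ∀ B ≤ P, Nat.card A < Nat.card B → ∀ y, cm y B ≤ P → Fx T B y := fun B hB hc y hy =>
    ih _ (by have := Nat.le_of_dvd Nat.card_pos B.card_subgroup_dvd_card; omega) hB hy rfl
  have R : ∀ m, ∀ U ≤ P, U ≠ ⊥ → Nat.card A ≤ Nat.card ↥(P ⊓ Subgroup.normalizer (U : Set X)) →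
      Full p P U → Nat.card X - Nat.card ↥(P ⊓ Subgroup.normalizer (U : Set X)) = m →
      (P ⊓ Subgroup.normalizer (U : Set X)) ⊓ ⁅Subgroup.normalizer (U : Set X), Subgroup.normalizer (U : Set X)⁆ ≤ T := by
    intro m
    induction m using Nat.strong_induction_on with
    | h m ihm =>
    intro U hU hU0 hcard hfull hm
    set L := Subgroup.normalizer (U : Set X) with hL
    set TU := P ⊓ L with hTU
    have hL' : L ≠ ⊤ := fun e => hU0 (le_bot_iff.1 (hcore ▸
      le_pCore (hN := Subgroup.normalizer_eq_top_iff.1 e) (S.2.to_le hU)))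
    refine (local_of_ok h𝔚 (hsub L hL') inf_le_right (S.2.to_le inf_le_left) hfull).trans (iSup₂_le fun W hW => ?_)
    by_cases hTP : TU = P
    · rw [show (S : Subgroup X) ⊓ L = P from hTP]
      exact le_trans (inf_le_inf_left _ (Subgroup.commutator_mono inf_le_right inf_le_right))
        (le_iSup₂ (f := fun W _ => P ⊓ ⁅Subgroup.normalizer (inducedFunctor W P : Set X),
          Subgroup.normalizer (inducedFunctor W P : Set X)⁆) W hW)
    have hTUp : IsPGroup p TU := S.2.to_le inf_le_left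
    set U' := inducedFunctor W TU with hU'
    have hTU0 : TU ≠ ⊥ := fun h => hU0 (le_bot_iff.1 (h ▸ le_inf hU Subgroup.le_normalizer))
    have hU'0 : U' ≠ ⊥ := inducedFunctor_ne_bot (h𝔚 W hW) hTUp hTU0
    have hU'T : U' ≤ TU := inducedFunctor_le W TU
    set T' := P ⊓ Subgroup.normalizer (U' : Set X) with hT'
    have hlt : TU < T' := (StrongFusion.lt_inf_normalizer S inf_le_left hTP).trans_le
      (le_inf inf_le_left (inf_le_right.trans (normalizer_le_normalizer_induced (h𝔚 W hW) hTUp)))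
    have hltc : Nat.card TU < Nat.card T' :=
      lt_of_le_of_ne (Subgroup.card_le_of_le hlt.le) fun h => hlt.ne (Subgroup.eq_of_le_of_card_ge hlt.le h.ge)
    obtain ⟨y, hy, hyfull⟩ := exists_full S (hU'T.trans inf_le_left)
    have hF : Fx T T' y := big T' inf_le_left (by omega) y hy
    have hyT' := cm_inf_normalizer_le y hy
    have hlt2 : Nat.card TU < Nat.card ↥(P ⊓ Subgroup.normalizer (cm y U' : Set X)) := by
      have : Nat.card T' ≤ Nat.card ↥(P ⊓ Subgroup.normalizer (cm y U' : Set X)) :=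
        card_cm y T' ▸ Subgroup.card_le_of_le hyT'
      omega
    have hR := ihm (Nat.card X - Nat.card ↥(P ⊓ Subgroup.normalizer (cm y U' : Set X))) (by
        have := Nat.le_of_dvd Nat.card_pos (P ⊓ Subgroup.normalizer (cm y U' : Set X)).card_subgroup_dvd_card
        omega)
      (cm y U') ((cm_mono (le_inf (hU'T.trans inf_le_left) Subgroup.le_normalizer)).trans hy)
      (fun h => hU'0 ((Subgroup.map_eq_bot_iff_of_injective U' (MulAut.conj y).injective).1 h))
      (by omega) hyfull rfl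
    intro z hz
    refine mem_of_fx (hF z (hlt.le hz.1)) (hR ⟨hyT' (conj_mem_cm (hlt.le hz.1)), ?_⟩)
    refine conj_mem_commutator (fun l hl => ?_) hz.2
    refine Local.mem_normalizer_of_map_conj_eq ?_
    show cm (y * l * y⁻¹) (cm y U') = cm y U'
    rw [cm_cm, show y * l * y⁻¹ * y = y * l by group, ← cm_cm]
    exact congrArg (cm y) (Local.map_conj_eq_of_mem_normalizer hl.2)
  by_cases hAP : A = P
  · subst hAP
    have hgN : g ∈ Subgroup.normalizer (P : Set X) :=
      Local.mem_normalizer_of_map_conj_eq (Subgroup.eq_of_le_of_card_ge hg (card_cm g _).ge)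
    have hfull : Full p P P := by
      intro hd
      rw [inf_eq_left.2 Subgroup.le_normalizer] at hd
      exact S.not_dvd_index (hd.trans (Subgroup.relIndex_dvd_index_of_le Subgroup.le_normalizer))
    intro a ha
    refine R _ P le_rfl hA0 (Subgroup.card_le_of_le (le_inf le_rfl Subgroup.le_normalizer)) hfull rfl
      (Subgroup.mem_inf.2 ⟨Subgroup.mem_inf.2 ⟨?_, ?_⟩,
        Subgroup.commutator_mem_commutator hgN (Subgroup.le_normalizer ha)⟩)
    · rw [commutatorElement_def]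
      exact mul_mem ((Subgroup.mem_normalizer_iff.1 hgN a).1 ha) (inv_mem ha)
    · rw [commutatorElement_def]
      exact mul_mem (Subgroup.le_normalizer ((Subgroup.mem_normalizer_iff.1 hgN a).1 ha))
        (inv_mem (Subgroup.le_normalizer ha))
  have hlarge : ∀ C ≤ P, Nat.card C = Nat.card A → Nat.card A < Nat.card ↥(P ⊓ Subgroup.normalizer (C : Set X)) := by
    intro C hC hc
    have hne : C ≠ P := fun h => hAP (Subgroup.eq_of_le_of_card_ge hA (by rw [← hc, h]))
    have h := StrongFusion.lt_inf_normalizer S hC hne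
    rw [← hc]
    exact lt_of_le_of_ne (Subgroup.card_le_of_le h.le) fun e => h.ne (Subgroup.eq_of_le_of_card_ge h.le e.ge)
  obtain ⟨y₁, hy₁, hVfull⟩ := exists_full S hA
  have hFA : Fx T A y₁ := (big _ inf_le_left (hlarge A hA rfl) y₁ hy₁).mono (le_inf hA Subgroup.le_normalizer)
  set V := cm y₁ A with hV
  have hVP : V ≤ P := (cm_mono (le_inf hA Subgroup.le_normalizer)).trans hy₁
  set z := y₁ * g⁻¹ with hz
  have hzB : cm z (cm g A) = V := by rw [cm_cm, hz, inv_mul_cancel_right]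
  set TB := P ⊓ Subgroup.normalizer (cm g A : Set X)
  obtain ⟨w, hwN, hw⟩ := exists_conj_le (Q := P ⊓ Subgroup.normalizer (V : Set X)) inf_le_right
    (S.2.to_le inf_le_left) hVfull (R := cm z TB)
    (Local.map_conj_le fun x hx => Local.mem_normalizer_of_map_conj_eq (by
      show cm (z * x * z⁻¹) V = V
      rw [← hzB, cm_cm, show z * x * z⁻¹ * z = z * x by group, ← cm_cm]
      exact congrArg (cm z) (Local.map_conj_eq_of_mem_normalizer hx.2)))
    ((S.2.to_le inf_le_left).map _)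
  have hwz : cm (w * z) TB ≤ P := by rw [← cm_cm]; exact hw.trans inf_le_left
  have hFB : Fx T (cm g A) (w * z) :=
    (big TB inf_le_left (hlarge _ hg (card_cm g A)) (w * z) hwz).mono (le_inf hg Subgroup.le_normalizer)
  have hRV := R _ V hVP (fun h => hA0 ((Subgroup.map_eq_bot_iff_of_injective A (MulAut.conj y₁).injective).1 h))
    (by have := hlarge V hVP (card_cm y₁ A); omega) hVfull rfl
  have hFw : Fx T V w := fun v hv => hRV (Subgroup.mem_inf.2 ⟨Subgroup.mem_inf.2 ⟨by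
      rw [commutatorElement_def]
      exact mul_mem (hVP ((Subgroup.mem_normalizer_iff.1 hwN v).1 hv)) (inv_mem (hVP hv)), by
      rw [commutatorElement_def]
      exact mul_mem (Subgroup.le_normalizer ((Subgroup.mem_normalizer_iff.1 hwN v).1 hv))
        (inv_mem (Subgroup.le_normalizer hv))⟩,
    Subgroup.commutator_mem_commutator hwN (Subgroup.le_normalizer hv)⟩)
  have h3 := hFB.inv
  rw [← cm_cm, hzB, show cm w V = V from Local.map_conj_eq_of_mem_normalizer hwN] at h3
  have h4 : Fx T A ((w * z)⁻¹ * (w * y₁)) := by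
    refine (hFA.comp hFw).comp ?_
    rw [← cm_cm, show cm w (cm y₁ A) = V from Local.map_conj_eq_of_mem_normalizer hwN]
    exact h3
  rwa [show (w * z)⁻¹ * (w * y₁) = g by rw [hz]; group] at h4

/-- Transfer is controlled once fusion fixes everything modulo the controlled part. -/
theorem le_tr_of_fx (S : Sylow p X) (hd : ⁅(S : Subgroup X), (S : Subgroup X)⁆ ≤ tr 𝔚 (S : Subgroup X))
    (h : ∀ (A : Subgroup X) (g : X), A ≤ (S : Subgroup X) → cm g A ≤ (S : Subgroup X) →
      Fx (tr 𝔚 (S : Subgroup X)) A g) :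
    (S : Subgroup X) ⊓ commutator X ≤ tr 𝔚 (S : Subgroup X) := by
  rw [inf_comm, Subgroup.commutator_inf_eq_focalSubgroup, Subgroup.focalSubgroup_def, Subgroup.closure_le]
  rintro _ ⟨hg, x, hx, u, rfl⟩
  have hux : u * x⁻¹ * u⁻¹ ∈ (S : Subgroup X) := by
    have := mul_mem (inv_mem hx) hg
    rwa [show x⁻¹ * ⁅x, u⁆ = u * x⁻¹ * u⁻¹ by simp only [commutatorElement_def]; group] at this
  have h1 := h (Subgroup.zpowers x⁻¹) u (Subgroup.zpowers_le.2 (inv_mem hx)) (by
    rintro _ ⟨a, ha, rfl⟩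
    obtain ⟨k, rfl⟩ := Subgroup.mem_zpowers_iff.1 ha
    show u * x⁻¹ ^ k * u⁻¹ ∈ (S : Subgroup X)
    rw [← conj_zpow]; exact zpow_mem hux k) x⁻¹ (Subgroup.mem_zpowers _)
  have h2 := conj_mem_of_derived_le (tr_le 𝔚 _) hd hx h1
  rwa [show x * ⁅u, x⁻¹⁆ * x⁻¹ = ⁅x, u⁆ by simp only [commutatorElement_def]; group] at h2

theorem le_tr_of_pCore_eq_bot (S : Sylow p X) (h𝔚 : ∀ W ∈ 𝔚, IsCharPFunctor p W)
    (hd : ⁅(S : Subgroup X), (S : Subgroup X)⁆ ≤ tr 𝔚 (S : Subgroup X))
    (hsub : ∀ H : Subgroup X, H ≠ ⊤ → Ok p 𝔚 H) (hcore : pCore p X = ⊥) :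
    (S : Subgroup X) ⊓ commutator X ≤ tr 𝔚 (S : Subgroup X) :=
  le_tr_of_fx S hd fun _ _ hA hg => fx_of_local S h𝔚 hsub hcore hA hg

theorem map_commutator_top {Y : Type*} [Group Y] {f : X →* Y} (hf : Function.Surjective f) :
    (commutator X).map f = commutator Y := by
  rw [commutator_def, commutator_def, Subgroup.map_commutator, Subgroup.map_top_of_surjective f hf]

/-- Transfer kills the commutators with a normal subgroup. -/
theorem inf_commutator_le_of_commutator_le (S : Sylow p X) {Q : Subgroup X} [Q.Normal]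
    (hd : ⁅(S : Subgroup X), (S : Subgroup X)⁆ ≤ tr 𝔚 (S : Subgroup X)) (hQS : Q ≤ (S : Subgroup X))
    (h : ⁅Q, (⊤ : Subgroup X)⁆ ≤ tr 𝔚 (S : Subgroup X)) : Q ⊓ commutator X ≤ tr 𝔚 (S : Subgroup X) := by
  classical
  set P : Subgroup X := (S : Subgroup X)
  set T := tr 𝔚 P
  haveI : (T.subgroupOf P).Normal := (Subgroup.normal_subgroupOf_iff (tr_le 𝔚 P)).2
    fun t s ht hs => conj_mem_of_derived_le (tr_le 𝔚 P) hd hs ht
  haveI : IsMulCommutative (P ⧸ T.subgroupOf P) := Subgroup.Normal.quotient_commutative_iff_commutator_le.2 (by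
    rw [← Subgroup.map_le_map_iff_of_injective P.subtype_injective, Subgroup.map_subgroupOf_eq_of_le (tr_le 𝔚 P),
      Subgroup.map_subtype_commutator]
    exact hd)
  open scoped IsMulCommutative in
  rintro x ⟨hxQ, hx⟩
  open scoped IsMulCommutative in
  set φ := QuotientGroup.mk' (T.subgroupOf P)
  open scoped IsMulCommutative in
  have h1 : MonoidHom.transfer φ x = 1 := Abelianization.commutator_subset_ker (MonoidHom.transfer φ) hx
  have : Fintype (Quotient (MulAction.orbitRel (Subgroup.zpowers x) (X ⧸ P))) := Fintype.ofFinite _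
  open scoped IsMulCommutative in
  rw [MonoidHom.transfer_eq_prod_quotient_orbitRel_zpowers_quot] at h1
  have hterm : ∀ (k : ℕ) (o : X) (hm : o⁻¹ * x ^ k * o ∈ P), φ ⟨o⁻¹ * x ^ k * o, hm⟩ = φ ⟨x, hQS hxQ⟩ ^ k := by
    intro k o hm
    rw [← map_pow]
    refine QuotientGroup.eq.2 ?_
    show (o⁻¹ * x ^ k * o)⁻¹ * x ^ k ∈ T
    refine h ?_
    rw [show (o⁻¹ * x ^ k * o)⁻¹ * x ^ k = ⁅o⁻¹, (x ^ k)⁻¹⁆ by simp only [commutatorElement_def]; group,
      Subgroup.commutator_comm]
    exact Subgroup.commutator_mem_commutator (Subgroup.mem_top _) (inv_mem (pow_mem hxQ k))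
  open scoped IsMulCommutative in
  rw [Finset.prod_congr rfl fun q _ => hterm _ _ _, Finset.prod_pow_eq_pow_sum,
    ← Subgroup.index_eq_sum_minimalPeriod P x] at h1
  obtain ⟨j, hj⟩ := (S.2.to_quotient (T.subgroupOf P)) (φ ⟨x, hQS hxQ⟩)
  have h2 : φ ⟨x, hQS hxQ⟩ = 1 := orderOf_eq_one_iff.1 (Nat.Coprime.eq_one_of_dvd
    (((hp.out.coprime_iff_not_dvd.2 S.not_dvd_index).pow_left j).coprime_dvd_left (orderOf_dvd_of_pow_eq_one hj))
    (orderOf_dvd_of_pow_eq_one h1))
  exact Subgroup.mem_subgroupOf.1 ((QuotientGroup.eq_one_iff (N := T.subgroupOf P) ⟨x, hQS hxQ⟩).1 h2)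

/-- Lift through `O_{p'}`. -/
theorem le_tr_of_coprime (S : Sylow p X) (h𝔚 : ∀ W ∈ 𝔚, IsCharPFunctor p W) (O : Subgroup X) [O.Normal]
    (hO : (Nat.card O).Coprime p) (hq : Ok p 𝔚 (X ⧸ O)) :
    (S : Subgroup X) ⊓ commutator X ≤ tr 𝔚 (S : Subgroup X) := by
  set P : Subgroup X := (S : Subgroup X)
  set π := QuotientGroup.mk' O
  have hπ := QuotientGroup.mk'_surjective O
  have hdis : P ⊓ O = ⊥ := by
    obtain ⟨k, hk⟩ := IsPGroup.iff_card.1 S.2
    refine Subgroup.inf_eq_bot_of_coprime ?_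
    rw [hk]; exact (hO.pow_right k).symm
  have hinj : Set.InjOn π (P : Set X) := fun s hs t ht hst => by
    have h1 : s⁻¹ * t ∈ P ⊓ O := ⟨P.mul_mem (P.inv_mem hs) ht, QuotientGroup.eq.1 hst⟩
    rw [hdis, Subgroup.mem_bot, inv_mul_eq_one] at h1
    exact h1
  have hnorm : ∀ W ∈ 𝔚, Subgroup.normalizer (inducedFunctor W (P.map π) : Set (X ⧸ O)) ≤
      (Subgroup.normalizer (inducedFunctor W P : Set X)).map π := by
    intro W hW
    rw [inducedFunctor_map (h𝔚 W hW) π S.2 hinj]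
    intro y hy
    obtain ⟨x, rfl⟩ := hπ y
    set U := inducedFunctor W P
    have hUp : IsPGroup p U := S.2.to_le (inducedFunctor_le W P)
    have hUO : ¬ p ∣ U.relIndex (U ⊔ O) := fun hd => by
      refine hp.out.coprime_iff_not_dvd.1 hO.symm (Nat.dvd_of_mul_dvd_mul_left (Nat.card_pos (α := U)) ?_)
      calc Nat.card U * p ∣ Nat.card U * U.relIndex (U ⊔ O) := Nat.mul_dvd_mul_left _ hd
        _ = Nat.card O * O.relIndex U := by
          rw [← Subgroup.relIndex_bot_left U, ← Subgroup.relIndex_bot_left O,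
            Subgroup.relIndex_mul_relIndex _ _ _ bot_le le_sup_left, ← Subgroup.relIndex_sup_right U O,
            Subgroup.relIndex_mul_relIndex _ _ _ bot_le le_sup_right]
        _ ∣ _ := by rw [mul_comm (Nat.card U)]; exact Nat.mul_dvd_mul_left _ (Subgroup.relIndex_dvd_card _ _)
    have hle : cm x U ≤ U ⊔ O := by
      rintro _ ⟨u, hu, rfl⟩
      have h1 : π (x * u * x⁻¹) ∈ U.map π := by
        rw [map_mul, map_mul, map_inv]
        exact (Subgroup.mem_normalizer_iff.1 hy _).1 ⟨u, hu, rfl⟩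
      have h2 := Subgroup.mem_comap.2 h1
      rwa [Subgroup.comap_map_eq, QuotientGroup.ker_mk'] at h2
    obtain ⟨m, hm, hmU⟩ := exists_conj_le (Q := U) le_sup_left hUp hUO hle (hUp.map _)
    rw [cm_cm] at hmU
    obtain ⟨u, hu, o, ho, e⟩ : ∃ u ∈ U, ∃ o ∈ O, m = u * o := by
      have h3 := hm
      rw [← SetLike.mem_coe, Subgroup.mul_normal] at h3
      obtain ⟨u, hu, o, ho, e⟩ := h3
      exact ⟨u, hu, o, ho, e.symm⟩
    refine ⟨u⁻¹ * (m * x), mul_mem (inv_mem (Subgroup.le_normalizer hu)) (Local.mem_normalizer_of_map_conj_eq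
      (Subgroup.eq_of_le_of_card_ge hmU (card_cm _ U).ge)), ?_⟩
    rw [e, map_mul, map_mul, map_mul, show π o = 1 from (QuotientGroup.eq_one_iff o).2 ho, map_inv]
    group; try rfl
  have hmain : ((S.mapSurjective hπ : Sylow p (X ⧸ O)) : Subgroup (X ⧸ O)) ⊓ commutator (X ⧸ O) ≤
      (tr 𝔚 P).map π := by
    refine (hq _).trans (iSup₂_le fun W hW => ?_)
    rintro y ⟨⟨s, hs, rfl⟩, hy⟩
    set M := Subgroup.normalizer (inducedFunctor W P : Set X)
    have hy' : π s ∈ (⁅M, M⁆).map π := by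
      rw [Subgroup.map_commutator]
      exact Subgroup.commutator_mono (hnorm W hW) (hnorm W hW) hy
    obtain ⟨m, hm, hme⟩ := hy'
    have hmM : m ∈ M := Subgroup.commutator_le_self M hm
    have hsM : s ∈ M := Subgroup.le_normalizer.trans (normalizer_le_normalizer_induced (h𝔚 W hW) S.2) hs
    refine ⟨s, Subgroup.mem_iSup_of_mem W (Subgroup.mem_iSup_of_mem hW ⟨hs, ?_⟩), rfl⟩
    set o : M := ⟨m⁻¹ * s, mul_mem (inv_mem hmM) hsM⟩
    have hoO : (o : X) ∈ O := QuotientGroup.eq.1 hme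
    set sb : Abelianization M := Abelianization.of ⟨s, hsM⟩
    have hsb : sb = Abelianization.of o := by
      have hm1 : Abelianization.of (⟨m, hmM⟩ : M) = 1 := by
        refine (QuotientGroup.eq_one_iff _).2 ?_
        obtain ⟨z, hz, hze⟩ := (Subgroup.map_subtype_commutator M).ge hm
        exact (Subtype.ext hze : z = (⟨m, hmM⟩ : M)) ▸ hz
      calc sb = Abelianization.of ((⟨m, hmM⟩ : M) * o) :=
            congrArg Abelianization.of (Subtype.ext (show s = m * (m⁻¹ * s) by group))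
        _ = _ := by rw [map_mul, hm1, one_mul]
    obtain ⟨k, hk⟩ := S.2 ⟨s, hs⟩
    have h1 : sb ^ p ^ k = 1 := by
      rw [← map_pow, show (⟨s, hsM⟩ : M) ^ p ^ k = 1 from Subtype.ext (by simpa using congrArg Subtype.val hk), map_one]
    have h2 : sb ^ Nat.card O = 1 := by
      rw [hsb, ← map_pow, show o ^ Nat.card O = 1 from Subtype.ext (by
        rw [Subgroup.coe_pow]
        exact congrArg Subtype.val (pow_card_eq_one' (x := (⟨(o : X), hoO⟩ : O)))), map_one]
    have h3 : sb = 1 := orderOf_eq_one_iff.1 (Nat.Coprime.eq_one_of_dvd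
      ((hO.pow_right k).symm.coprime_dvd_left (orderOf_dvd_of_pow_eq_one h1))
      (orderOf_dvd_of_pow_eq_one h2))
    exact (Subgroup.map_subtype_commutator M).le ⟨_, (QuotientGroup.eq_one_iff _).1 h3, rfl⟩
  rintro x ⟨hx, hx'⟩
  obtain ⟨t, ht, hte⟩ := hmain ⟨⟨x, hx, rfl⟩, (map_commutator_top hπ).le ⟨x, hx', rfl⟩⟩
  exact hinj (tr_le 𝔚 P ht) hx hte ▸ ht

/-- Lift through a normal `p`-subgroup. -/
theorem le_tr_of_pCore (S : Sylow p X) (h𝔚 : ∀ W ∈ 𝔚, IsCharPFunctor p W)
    (hsub : ∀ H : Subgroup X, H ≠ ⊤ → Ok p 𝔚 H) (hq : Ok p 𝔚 (X ⧸ pCore p X))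
    (hQ : pCore p X ⊓ commutator X ≤ tr 𝔚 (S : Subgroup X)) :
    (S : Subgroup X) ⊓ commutator X ≤ tr 𝔚 (S : Subgroup X) := by
  set P : Subgroup X := (S : Subgroup X)
  set Q := pCore p X
  have hQP : Q ≤ P := pCore_le_sylow S
  by_cases hPQ : P ≤ Q
  · exact (inf_le_inf_right _ hPQ).trans hQ
  set π := QuotientGroup.mk' Q
  have hπ := QuotientGroup.mk'_surjective Q
  have hPb : P.map π ≠ ⊥ := fun e => hPQ (by
    rw [Subgroup.map_eq_bot_iff, QuotientGroup.ker_mk'] at e; exact e)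
  have hmain : ((S.mapSurjective hπ : Sylow p (X ⧸ Q)) : Subgroup (X ⧸ Q)) ⊓ commutator (X ⧸ Q) ≤
      (tr 𝔚 P).map π := by
    refine (hq _).trans (iSup₂_le fun W hW => ?_)
    have hPbp : IsPGroup p (P.map π) := S.2.map π
    set Wb := inducedFunctor W (P.map π)
    set M := (Subgroup.normalizer (Wb : Set (X ⧸ Q))).comap π with hM
    have hPM : P ≤ M := fun s hs =>
      (Subgroup.le_normalizer.trans (normalizer_le_normalizer_induced (h𝔚 W hW) hPbp)) ⟨s, hs, rfl⟩
    have hWP : Wb.comap π ≤ P := by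
      refine (Subgroup.comap_mono (inducedFunctor_le W _)).trans ?_
      rw [Subgroup.comap_map_eq, QuotientGroup.ker_mk', sup_eq_left.2 hQP]
    have hMne : M ≠ ⊤ := by
      intro e
      rw [hM, Subgroup.comap_normalizer_eq_of_surjective _ hπ] at e
      have h := le_pCore (hN := Subgroup.normalizer_eq_top_iff.1 e) (S.2.to_le hWP)
      refine inducedFunctor_ne_bot (h𝔚 W hW) hPbp hPb ?_
      show Wb = ⊥
      rw [← Subgroup.map_comap_eq_self_of_surjective hπ Wb, eq_bot_iff]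
      refine (Subgroup.map_mono h).trans (le_of_eq ?_)
      rw [Subgroup.map_eq_bot_iff, QuotientGroup.ker_mk']
    have hover := over_le h𝔚 S (hsub M hMne) hPM
    rintro y ⟨⟨s, hs, rfl⟩, hy⟩
    have hy' : π s ∈ (⁅M, M⁆).map π := by
      rw [Subgroup.map_commutator, hM, Subgroup.map_comap_eq_self_of_surjective hπ]
      exact hy
    obtain ⟨m, hm, hme⟩ := hy'
    have hmP : m ∈ P := by
      have := mul_mem hs (inv_mem (hQP (QuotientGroup.eq.1 hme : m⁻¹ * s ∈ Q)))
      rwa [show s * (m⁻¹ * s)⁻¹ = m by group] at this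
    exact ⟨m, hover ⟨hmP, hm⟩, hme⟩
  rintro x ⟨hx, hx'⟩
  obtain ⟨t, ht, hte⟩ := hmain ⟨⟨x, hx, rfl⟩, (map_commutator_top hπ).le ⟨x, hx', rfl⟩⟩
  have hq' : t⁻¹ * x ∈ Q ⊓ commutator X :=
    Subgroup.mem_inf.2 ⟨QuotientGroup.eq.1 hte, mul_mem (inv_mem (tr_le_commutator 𝔚 P ht).2) hx'⟩
  have := mul_mem ht (hQ hq')
  rwa [mul_inv_cancel_left] at this

/-- When `C(O_p)` is not contained in `O_p` every commutator with `O_p` is controlled. -/
theorem commutator_core_le (S : Sylow p X) (h𝔚 : ∀ W ∈ 𝔚, IsCharPFunctor p W)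
    (hsub : ∀ H : Subgroup X, H ≠ ⊤ → Ok p 𝔚 H)
    (hO : pPrimeCore p X = ⊥) (hcon : ¬ Subgroup.centralizer (pCore p X : Set X) ≤ pCore p X) :
    ⁅pCore p X, (⊤ : Subgroup X)⁆ ≤ tr 𝔚 (S : Subgroup X) := by
  set P : Subgroup X := (S : Subgroup X)
  set Q := pCore p X
  set C := Subgroup.centralizer (Q : Set X)
  haveI hCn : C.Normal := inferInstance
  set D := P ⊓ C with hDdef
  have hDidx : ¬ p ∣ D.relIndex C := not_dvd_relIndex_inf (N := ⊤) le_top S.2
    (by rw [Subgroup.relIndex_top_right]; exact S.not_dvd_index) le_top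
    fun y _ c hc => hCn.conj_mem c hc y
  have hDQ : ¬ D ≤ Q := by
    intro hDQ
    -- then `C` is a central extension of a `p'`-group
    set Dc : Sylow p C := ((S.2.to_le (inf_le_left : D ≤ P)).of_equiv
      (Subgroup.subgroupOfEquivOfLe (inf_le_right : D ≤ C)).symm).toSylow hDidx
    have hnpc : HasNormalPComplement p C := hasNormalPComplement_of_normalizer_le_centralizer Dc
      fun c _ d hd => Subtype.ext (c.2 (d : X) (hDQ hd))
    haveI : ((pPrimeCore p C).map C.subtype).Normal := ConjAct.normal_of_characteristic_of_normal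
    have hbot : (pPrimeCore p C).map C.subtype = ⊥ := le_bot_iff.1 (hO ▸ le_pPrimeCore (by
      rw [Subgroup.card_map_of_injective C.subtype_injective]; exact card_pPrimeCore_coprime p))
    rw [Subgroup.map_eq_bot_iff_of_injective _ C.subtype_injective] at hbot
    refine hcon (le_pCore fun c => ?_)
    obtain ⟨j, hj⟩ := isPGroup_quotient_of_hasNormalPComplement hnpc (QuotientGroup.mk c)
    rw [← QuotientGroup.mk_pow, QuotientGroup.eq_one_iff, hbot, Subgroup.mem_bot] at hj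
    exact ⟨j, hj⟩
  set N := Subgroup.normalizer (D : Set X)
  have hPN : P ≤ N := fun s hs => Local.mem_normalizer_of_map_conj_eq
    (Subgroup.eq_of_le_of_card_ge (Local.map_conj_le fun d hd => Subgroup.mem_inf.2
      ⟨mul_mem (mul_mem hs hd.1) (inv_mem hs), hCn.conj_mem d hd.2 s⟩) (card_cm s D).ge)
  have hN : N ≠ ⊤ := fun e => hDQ (le_pCore (hN := Subgroup.normalizer_eq_top_iff.1 e) (S.2.to_le inf_le_left))
  have hover := over_le h𝔚 S (hsub N hN) hPN
  have hQP : Q ≤ P := pCore_le_sylow S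
  rw [Subgroup.commutator_le]
  intro q hq x _
  obtain ⟨m, hm, hmD⟩ := exists_conj_le (Q := D) inf_le_right (S.2.to_le inf_le_left) hDidx (R := cm x D)
    (Local.map_conj_le fun d hd => hCn.conj_mem d hd.2 x) ((S.2.to_le inf_le_left).map _)
  rw [cm_cm] at hmD
  have hn : m * x ∈ N := Local.mem_normalizer_of_map_conj_eq (Subgroup.eq_of_le_of_card_ge hmD (card_cm _ D).ge)
  have hcom : ⁅q, m * x⁆ ∈ P ⊓ ⁅N, N⁆ := ⟨hQP (by
      rw [show ⁅q, m * x⁆ = q * ((m * x) * q⁻¹ * (m * x)⁻¹) by simp only [commutatorElement_def]; group]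
      exact mul_mem hq ((inferInstance : Q.Normal).conj_mem _ (inv_mem hq) _)),
    Subgroup.commutator_mem_commutator (hPN (hQP hq)) hn⟩
  have hmc : m * (x * q⁻¹ * x⁻¹) * m⁻¹ = x * q⁻¹ * x⁻¹ := by
    rw [← hm _ ((inferInstance : Q.Normal).conj_mem _ (inv_mem hq) x), mul_inv_cancel_right]
  have e : ⁅q, m * x⁆ = ⁅q, x⁆ := by
    simp only [commutatorElement_def]
    calc q * (m * x) * q⁻¹ * (m * x)⁻¹ = q * (m * (x * q⁻¹ * x⁻¹) * m⁻¹) := by group
      _ = _ := by rw [hmc]; group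
  exact e ▸ hover hcom

end CfsgLib.TransferControl
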