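import Cfsg.Agent.Lib.TransferControl.Apply
import Cfsg.Agent.Lib.Blocks.Orth
import Cfsg.Agent.Lib.CharTheory.Burnside

/-!
A normal subgroup of index `p` when `N(S)/C(S)` is a `p`-group, and groups with self-normalizing Sylow subgroups.
-/

set_option autoImplicit false
set_option linter.unusedSectionVars false

namespace CfsgLib.TransferControl

open CfsgLib Cfsg CfsgLib.StrongFusion
open scoped Pointwise commutatorElement

universe u

variable {p : ℕ} [hp : Fact p.Prime]

/-- An abelian quotient of order divisible by `p` gives index `p`. -/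
theorem exists_index_eq_of_not_le {G : Type*} [Group G] [Finite G] {S : Subgroup G} (hS : IsPGroup p S)
    (h : ¬ S ≤ commutator G) : ∃ N : Subgroup G, N.Normal ∧ N.index = p := by
  let A := Abelianization G
  obtain ⟨s, hs, hsn⟩ := SetLike.not_le_iff_exists.1 h
  set a : A := Abelianization.of s
  have ha : a ≠ 1 := fun e => hsn ((QuotientGroup.eq_one_iff s).1 e)
  obtain ⟨k, hk⟩ := hS ⟨s, hs⟩
  have hak : a ^ p ^ k = 1 := by
    rw [← map_pow, show s ^ p ^ k = 1 by simpa using congrArg Subtype.val hk, map_one]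
  set R : Subgroup A := (powMonoidHom p : A →* A).range
  have hR : R ≠ ⊤ := by
    intro e
    have hinj : Function.Injective (powMonoidHom p : A →* A) :=
      Finite.injective_iff_surjective.2 (MonoidHom.range_eq_top.1 e)
    refine ha ?_
    have : ∀ j, a ^ p ^ j = 1 → a = 1 := by
      intro j
      induction j with
      | zero => simp
      | succ j ih =>
        intro hj
        refine ih (hinj ?_)
        rw [map_one, powMonoidHom_apply, ← pow_mul, ← pow_succ]
        exact hj
    exact this k hak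
  have hexp : IsPGroup p (A ⧸ R) := fun x => ⟨1, by
    induction x using QuotientGroup.induction_on with
    | H x => rw [← QuotientGroup.mk_pow, QuotientGroup.eq_one_iff, pow_one]; exact ⟨x, rfl⟩⟩
  haveI : Nontrivial (A ⧸ R) := QuotientGroup.nontrivial_iff.2 hR
  obtain h0 | ⟨M, hM, -⟩ := eq_top_or_exists_le_coatom (⊥ : Subgroup (A ⧸ R))
  · exact absurd h0 bot_ne_top
  obtain ⟨hn, hi⟩ := index_coatom_pGroup hexp hM
  set π : G →* A ⧸ R := (QuotientGroup.mk' R).comp Abelianization.of
  refine ⟨M.comap π, hn.comap π, ?_⟩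
  exact (Subgroup.index_comap_of_surjective (f := π) M
    ((QuotientGroup.mk'_surjective R).comp QuotientGroup.mk_surjective)).trans hi

/-- Transfer control and `N(S)/C(S)` a `p`-group force `S ≰ G'`. -/
theorem not_le_commutator_of_centralized {W : ∀ (Q : Type u) [Group Q], Subgroup Q} (hW : IsCharPFunctor p W)
    {G : Type u} [Group G] [Finite G] (hctl : ∀ (Y : Type u) [Group Y] [Finite Y], Involves Y G → Ok p {W} Y)
    (S : Sylow p G) (hS : (S : Subgroup G) ≠ ⊥)
    (hN : ∀ g ∈ Subgroup.normalizer ((S : Subgroup G) : Set G), (orderOf g).Coprime p →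
      g ∈ Subgroup.centralizer ((S : Subgroup G) : Set G)) : ¬ (S : Subgroup G) ≤ commutator G := by
  induction hn : Nat.card G using Nat.strong_induction_on generalizing G with
  | h n ih =>
  subst hn
  intro hle
  set P : Subgroup G := (S : Subgroup G)
  set U := inducedFunctor W P
  set N := Subgroup.normalizer (U : Set G) with hNdef
  have hPN : P ≤ N := Subgroup.le_normalizer.trans (normalizer_le_normalizer_induced hW S.2)
  have hPN' : P ≤ ⁅N, N⁆ := by
    have h := hctl G involves_self S
    rw [tr_singleton] at h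
    exact (le_inf le_rfl hle).trans (h.trans inf_le_right)
  by_cases hNtop : N ≠ ⊤
  · set S' : Sylow p N := (S.2.of_equiv (Subgroup.subgroupOfEquivOfLe hPN).symm).toSylow
      fun h => S.not_dvd_index (h.trans (Subgroup.relIndex_dvd_index_of_le hPN))
    refine ih _ (card_lt_of_ne_top hNtop) (G := N)
      (fun Y _ _ hY => hctl Y (involves_of_injective N.subtype N.subtype_injective hY)) S' ?_ ?_ rfl ?_
    · intro e
      have h1 : P.subgroupOf N = ⊥ := e
      rw [Subgroup.subgroupOf_eq_bot, disjoint_iff, inf_eq_left.2 hPN] at h1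
      exact hS h1
    · intro g hg hgc q hq
      have hgP : (g : G) ∈ Subgroup.normalizer (P : Set G) := by
        refine Local.mem_normalizer_of_map_conj_eq (Subgroup.eq_of_le_of_card_ge (Local.map_conj_le fun s hs => ?_)
          (card_cm (g : G) P).ge)
        exact Subgroup.mem_subgroupOf.1 (show g * ⟨s, hPN hs⟩ * g⁻¹ ∈ P.subgroupOf N from
          (Subgroup.mem_normalizer_iff.1 hg _).1 (show (⟨s, hPN hs⟩ : N) ∈ P.subgroupOf N from hs))
      exact Subtype.ext (hN (g : G) hgP (by rwa [Subgroup.orderOf_coe]) (q : G) hq)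
    · intro s hs
      obtain ⟨z, hz, hzs⟩ := (Subgroup.map_subtype_commutator N).ge (hPN' (show (s : G) ∈ P from hs))
      exact (Subtype.ext hzs : z = s) ▸ hz
  push Not at hNtop
  haveI hUn : U.Normal := Subgroup.normalizer_eq_top_iff.1 hNtop
  have hUP : U ≤ P := inducedFunctor_le W P
  by_cases hUeq : U = P
  · -- `S` is normal and every fusion is realised inside `S`
    have hPn : P.Normal := hUeq ▸ hUn
    have key := CfsgLib.commutator_inf_sylow_of_fusion S fun x g hx _ => by
      obtain ⟨z, w, hzw, hcom, hz, hw, hzx, -⟩ := Blocks.exists_pPart hp.out g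
      have hzP : z ∈ P := by
        obtain ⟨k, hk⟩ := hz
        have hzp : IsPGroup p (Subgroup.zpowers z) := IsPGroup.of_card (n := k) (by rw [Nat.card_zpowers, hk])
        haveI := hPn
        have hsup : IsPGroup p ↥(Subgroup.zpowers z ⊔ P) := hzp.to_sup_of_normal_right S.2
        exact (S.3 hsup le_sup_right).le (Subgroup.mem_sup_left (Subgroup.mem_zpowers z))
      refine ⟨z, hzP, ?_⟩
      have hwx := hN w (by rw [Subgroup.normalizer_eq_top]; trivial) ((hp.out.coprime_iff_not_dvd.2 hw).symm) x hx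
      rw [← hzw, show z * w * x * (z * w)⁻¹ = z * (w * x * w⁻¹) * z⁻¹ by group,
        show w * x * w⁻¹ = x by rw [← hwx, mul_inv_cancel_right]]
    rw [inf_eq_right.2 hle] at key
    haveI : Group.IsNilpotent P := S.2.isNilpotent
    haveI : Nontrivial P := (Subgroup.nontrivial_iff_ne_bot _).2 hS
    have hlt : commutator P < ⊤ := Group.IsSolvable.commutator_lt_top_of_nontrivial P
    refine hlt.ne (Subgroup.map_injective P.subtype_injective ?_)
    rw [Subgroup.map_subtype_commutator, ← MonoidHom.range_eq_map, Subgroup.range_subtype]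
    exact key.symm
  have hU0 : U ≠ ⊥ := inducedFunctor_ne_bot hW S.2 hS
  set π := QuotientGroup.mk' U
  have hπ := QuotientGroup.mk'_surjective U
  have hcomap : (P.map π).comap π = P := by
    rw [Subgroup.comap_map_eq, QuotientGroup.ker_mk', sup_eq_left.2 hUP]
  refine ih _ (card_quotient_lt hU0) (G := G ⧸ U) (fun Y _ _ hY => hctl Y (involves_of_quotientHom π hπ hY))
    (S.mapSurjective hπ) ?_ ?_ rfl ?_
  · intro e
    refine hUeq (le_antisymm hUP ?_)
    have e' : P.map π = ⊥ := e
    rwa [Subgroup.map_eq_bot_iff, QuotientGroup.ker_mk'] at e'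
  · intro q hq hqc y hy
    obtain ⟨x, rfl⟩ := hπ q
    have hx : x ∈ Subgroup.normalizer (P : Set G) := by
      rw [← hcomap, ← Subgroup.comap_normalizer_eq_of_surjective _ hπ]
      exact hq
    obtain ⟨z, w, hzw, -, ⟨k, hk⟩, hw, hzx, hwx⟩ := Blocks.exists_pPart hp.out x
    have hπz : π z = 1 := by
      have h1 : orderOf (π z) ∣ orderOf (π x) := by
        obtain ⟨i, rfl⟩ := Subgroup.mem_zpowers_iff.1 hzx
        rw [map_zpow]
        exact orderOf_dvd_of_mem_zpowers ⟨i, rfl⟩
      exact orderOf_eq_one_iff.1 (Nat.Coprime.eq_one_of_dvd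
        ((hqc.pow_right k).coprime_dvd_left h1) (hk ▸ orderOf_map_dvd π z))
    have hwC := hN w ((Subgroup.zpowers_le.2 hx) hwx) ((hp.out.coprime_iff_not_dvd.2 hw).symm)
    obtain ⟨s, hs, rfl⟩ := hy
    rw [← hzw, map_mul, hπz, one_mul, ← map_mul, ← map_mul, hwC s hs]
  · exact (Subgroup.map_mono hle).trans (map_commutator_top hπ).le

theorem exists_index_of_five {G : Type u} [Group G] [Finite G] (hp5 : 5 ≤ p) (S : Sylow p G)
    (hS : (S : Subgroup G) ≠ ⊥)
    (hN : ∀ g ∈ Subgroup.normalizer ((S : Subgroup G) : Set G), (orderOf g).Coprime p →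
      g ∈ Subgroup.centralizer ((S : Subgroup G) : Set G)) : ∃ N : Subgroup G, N.Normal ∧ N.index = p :=
  exists_index_eq_of_not_le S.2 (not_le_commutator_of_centralized (W := kInfLower) (KInf.isCharPFunctor p).1
    (fun Y _ _ _ => ok_kInf hp5 (Or.inl rfl) Y) S hS hN)

end CfsgLib.TransferControl

namespace CfsgLib.TransferControl

open CfsgLib Cfsg

universe u

/-- A group with self-normalizing Sylow subgroups has prime power order. -/
theorem exists_isPGroup_of_self_normalizing {G : Type u} [Group G] [Finite G]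
    (h : ∀ q : ℕ, q.Prime → q ∣ Nat.card G → ∀ Q : Sylow q G, Subgroup.normalizer ((Q : Subgroup G) : Set G) = Q) :
    ∃ q : ℕ, q.Prime ∧ IsPGroup q G := by
  have key : ∀ (r : ℕ), r.Prime → ∀ H : Subgroup G, H.Normal → H.index = r → IsPGroup r G := by
    intro r hr H hH hi
    haveI := Fact.mk hr
    have hall : ∀ q : ℕ, q.Prime → q ∣ Nat.card G → q = r := by
      intro q hq hqd
      by_contra hne
      haveI := Fact.mk hq
      haveI := hH
      obtain ⟨Q⟩ := (inferInstance : Nonempty (Sylow q G))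
      have hQH : (Q : Subgroup G) ≤ H := by
        intro x hx
        obtain ⟨k, hk⟩ := Q.2 ⟨x, hx⟩
        refine (QuotientGroup.eq_one_iff x).1 (orderOf_eq_one_iff.1 (Nat.Coprime.eq_one_of_dvd
          (((Nat.coprime_primes hq hr).2 hne).pow_left k |>.coprime_dvd_left (orderOf_dvd_of_pow_eq_one ?_))
          (hi ▸ orderOf_dvd_natCard _)))
        rw [← QuotientGroup.mk_pow, show x ^ q ^ k = 1 by simpa using congrArg Subtype.val hk, QuotientGroup.mk_one]
      have hf := Sylow.normalizer_sup_eq_top (Q.subtype hQH)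
      rw [Sylow.coe_subtype, Subgroup.map_subgroupOf_eq_of_le hQH, h q hq hqd Q, sup_eq_right.2 hQH] at hf
      rw [hf, Subgroup.index_top] at hi
      exact hr.one_lt.ne hi
    exact IsPGroup.of_card (n := (Nat.card G).primeFactorsList.length)
      (Nat.eq_prime_pow_of_unique_prime_dvd Nat.card_pos.ne' fun hq hd => hall _ hq hd)
  by_cases h5 : ∃ q : ℕ, q.Prime ∧ q ∣ Nat.card G ∧ 5 ≤ q
  · obtain ⟨q, hq, hqd, hq5⟩ := h5
    haveI := Fact.mk hq
    obtain ⟨Q⟩ := (inferInstance : Nonempty (Sylow q G))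
    obtain ⟨H, hH, hi⟩ := exists_index_of_five hq5 Q (Q.ne_bot_of_dvd_card hqd) (by
      intro g hg hgc
      rw [h q hq hqd Q] at hg
      obtain ⟨k, hk⟩ := Q.2 ⟨g, hg⟩
      have hg1 : g = 1 := orderOf_eq_one_iff.1 (Nat.Coprime.eq_one_of_dvd (hgc.pow_right k)
        (orderOf_dvd_of_pow_eq_one (show g ^ q ^ k = 1 by simpa using congrArg Subtype.val hk)))
      rw [hg1]; exact one_mem _)
    exact ⟨q, hq, key q hq H hH hi⟩
  push Not at h5
  rcases subsingleton_or_nontrivial G with hs | hnt
  · exact ⟨2, Nat.prime_two, IsPGroup.of_card (n := 0) (by simp)⟩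
  obtain ⟨a, b, hab⟩ : ∃ a b, Nat.card G = 2 ^ a * 3 ^ b := by
    obtain ⟨a, m, hm, e⟩ := Nat.exists_eq_pow_mul_and_not_dvd (Nat.card_pos (α := G)).ne' 2 (by norm_num)
    refine ⟨a, m.primeFactorsList.length, ?_⟩
    rw [e, ← Nat.eq_prime_pow_of_unique_prime_dvd (n := m) (p := 3)
      (fun h0 => hm (by rw [h0]; exact dvd_zero 2)) fun {d} hd hdm => ?_]
    have h1 := h5 d hd (e ▸ dvd_mul_of_dvd_right hdm _)
    have h2 : d ≠ 2 := fun h => hm (h ▸ hdm)
    have h4 : d ≠ 4 := fun h => absurd (h ▸ hd) (by norm_num)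
    have := hd.two_le
    omega
  haveI := CharTheory.isSolvable_of_card_two_primes Nat.prime_two Nat.prime_three hab
  have hlt := Group.IsSolvable.commutator_lt_top_of_nontrivial G
  obtain ⟨r, hr, hrd⟩ := Nat.exists_prime_and_dvd (n := (commutator G).index)
    (fun e => hlt.ne (Subgroup.index_eq_one.1 e))
  haveI := Fact.mk hr
  obtain ⟨R⟩ := (inferInstance : Nonempty (Sylow r G))
  obtain ⟨H, hH, hi⟩ := exists_index_eq_of_not_le R.2 (fun hle =>
    R.not_dvd_index (hrd.trans (Subgroup.index_dvd_of_le hle)))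
  exact ⟨r, hr, key r hr H hH hi⟩

end CfsgLib.TransferControl
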