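import Cfsg.Agent.Lib.TransferControl.Basic
import Cfsg.Agent.Lib.StrongFusion.Functors
import Cfsg.Prelude.Def_ConjugacyFunctors

/-!
Control of transfer in every section follows from the constrained sections.
-/

set_option autoImplicit false
set_option linter.unusedSectionVars false

namespace CfsgLib.TransferControl

open CfsgLib Cfsg CfsgLib.StrongFusion
open scoped Pointwise commutatorElement

universe u

variable {p : ℕ} [hp : Fact p.Prime] {𝔚 : Set (∀ (Q : Type u) [Group Q], Subgroup Q)}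

section transport

variable {X Y : Type u} [Group X] [Group Y] [Finite X] [Finite Y]

theorem map_normalizer_le_of_equiv {W : ∀ (Q : Type u) [Group Q], Subgroup Q} (hW : IsCharPFunctor p W) (e : X ≃* Y)
    {S : Subgroup X} (hS : IsPGroup p S) :
    (Subgroup.normalizer (inducedFunctor W S : Set X)).map e.toMonoidHom ≤
      Subgroup.normalizer (inducedFunctor W (S.map e.toMonoidHom) : Set Y) := by
  rw [inducedFunctor_map hW e.toMonoidHom hS e.injective.injOn]
  exact Subgroup.le_normalizer_map _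

theorem map_tr_le (h𝔚 : ∀ W ∈ 𝔚, IsCharPFunctor p W) (e : X ≃* Y) {S : Subgroup X} (hS : IsPGroup p S) :
    (tr 𝔚 S).map e.toMonoidHom ≤ tr 𝔚 (S.map e.toMonoidHom) := by
  rw [tr, Subgroup.map_iSup]
  refine iSup_le fun W => ?_
  rw [Subgroup.map_iSup]
  refine iSup_le fun hW => le_trans ?_ (le_iSup₂ (f := fun W _ => S.map e.toMonoidHom ⊓
    ⁅Subgroup.normalizer (inducedFunctor W (S.map e.toMonoidHom) : Set Y),
      Subgroup.normalizer (inducedFunctor W (S.map e.toMonoidHom) : Set Y)⁆) W hW)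
  refine (Subgroup.map_inf_le _ _ e.toMonoidHom).trans (inf_le_inf_left _ ?_)
  rw [Subgroup.map_commutator]
  have h := map_normalizer_le_of_equiv (h𝔚 W hW) e hS
  exact Subgroup.commutator_mono h h

theorem bound_map (h𝔚 : ∀ W ∈ 𝔚, IsCharPFunctor p W) (e : X ≃* Y) {S : Subgroup X} (hS : IsPGroup p S)
    (h : S ⊓ commutator X ≤ tr 𝔚 S) :
    S.map e.toMonoidHom ⊓ commutator Y ≤ tr 𝔚 (S.map e.toMonoidHom) := by
  refine le_trans ?_ (map_tr_le h𝔚 e hS)
  refine le_trans ?_ (Subgroup.map_mono h)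
  rw [Subgroup.map_inf _ _ _ e.injective, map_commutator_top (f := e.toMonoidHom) e.surjective]

theorem ok_of_equiv (h𝔚 : ∀ W ∈ 𝔚, IsCharPFunctor p W) (e : X ≃* Y) (h : Ok p 𝔚 X) : Ok p 𝔚 Y := by
  intro S
  have h1 := bound_map h𝔚 e (S.2.map e.symm.toMonoidHom) (h (S.mapSurjective (f := e.symm.toMonoidHom) e.symm.surjective))
  rwa [Subgroup.map_map, show e.toMonoidHom.comp e.symm.toMonoidHom = MonoidHom.id Y from
    MonoidHom.ext fun y => e.apply_symm_apply y, Subgroup.map_id] at h1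

theorem ok_of_sylow (h𝔚 : ∀ W ∈ 𝔚, IsCharPFunctor p W) (S : Sylow p X)
    (h : (S : Subgroup X) ⊓ commutator X ≤ tr 𝔚 (S : Subgroup X)) : Ok p 𝔚 X := by
  intro T
  obtain ⟨g, rfl⟩ := MulAction.exists_smul_eq X S T
  exact bound_map h𝔚 (MulAut.conj g) S.2 h

theorem iSup_family (T : Subgroup X) :
    (⨆ W ∈ (fun W => inducedFunctor (G := X) W) '' 𝔚,
      T ⊓ ⁅(⊤ : Subgroup X) ⊓ Subgroup.normalizer ((W T : Subgroup X) : Set X),
        (⊤ : Subgroup X) ⊓ Subgroup.normalizer ((W T : Subgroup X) : Set X)⁆) = tr 𝔚 T := by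
  rw [iSup_image]
  simp only [top_inf_eq, tr]

theorem family_of_ok (h : Ok p 𝔚 X) :
    FamilyControlsTransferIn p ((fun W => inducedFunctor (G := X) W) '' 𝔚) ⊤ := by
  obtain ⟨S⟩ := (inferInstance : Nonempty (Sylow p X))
  refine ⟨(S : Subgroup X), le_top, S.2, by rw [Subgroup.relIndex_top_right]; exact S.not_dvd_index, ?_⟩
  rw [iSup_family]
  exact le_antisymm (h S) (tr_le_commutator 𝔚 _)

theorem ok_of_family (h𝔚 : ∀ W ∈ 𝔚, IsCharPFunctor p W)
    (h : FamilyControlsTransferIn p ((fun W => inducedFunctor (G := X) W) '' 𝔚) ⊤) : Ok p 𝔚 X := by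
  obtain ⟨T, -, hT, hidx, he⟩ := h
  rw [iSup_family] at he
  rw [Subgroup.relIndex_top_right] at hidx
  exact ok_of_sylow h𝔚 (hT.toSylow hidx) he.le

theorem tr_singleton (W : ∀ (Q : Type u) [Group Q], Subgroup Q) (T : Subgroup X) :
    tr {W} T = T ⊓ ⁅Subgroup.normalizer (inducedFunctor W T : Set X), Subgroup.normalizer (inducedFunctor W T : Set X)⁆ :=
  iSup_singleton

theorem single_of_ok {W : ∀ (Q : Type u) [Group Q], Subgroup Q} (h : Ok p {W} X) :
    ControlsTransferIn p (inducedFunctor (G := X) W) ⊤ := by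
  obtain ⟨S⟩ := (inferInstance : Nonempty (Sylow p X))
  refine ⟨(S : Subgroup X), le_top, S.2, by rw [Subgroup.relIndex_top_right]; exact S.not_dvd_index, ?_⟩
  rw [top_inf_eq, ← tr_singleton]
  exact le_antisymm (h S) (tr_le_commutator _ _)

theorem ok_of_single {W : ∀ (Q : Type u) [Group Q], Subgroup Q} (hW : IsCharPFunctor p W)
    (h : ControlsTransferIn p (inducedFunctor (G := X) W) ⊤) : Ok p {W} X := by
  obtain ⟨T, -, hT, hidx, he⟩ := h
  rw [Subgroup.relIndex_top_right] at hidx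
  rw [top_inf_eq, ← tr_singleton] at he
  exact ok_of_sylow (fun _ h => h ▸ hW) (hT.toSylow hidx) he.le

theorem single_eq {W : ∀ (Q : Type u) [Group Q], Subgroup Q} (h : Ok p {W} X) (S : Sylow p X) :
    (S : Subgroup X) ⊓ commutator X = (S : Subgroup X) ⊓
      ⁅Subgroup.normalizer (inducedFunctor W (S : Subgroup X) : Set X),
        Subgroup.normalizer (inducedFunctor W (S : Subgroup X) : Set X)⁆ := by
  rw [← tr_singleton]
  exact le_antisymm (h S) (tr_le_commutator _ _)

theorem card_lt_of_ne_top {H : Subgroup X} (h : H ≠ ⊤) : Nat.card H < Nat.card X :=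
  lt_of_le_of_ne (Nat.le_of_dvd Nat.card_pos H.card_subgroup_dvd_card) fun e => h (Subgroup.eq_top_of_card_eq H e)

theorem card_quotient_lt {N : Subgroup X} (h : N ≠ ⊥) : Nat.card (X ⧸ N) < Nat.card X := by
  rw [Subgroup.card_eq_card_quotient_mul_card_subgroup N]
  exact lt_mul_of_one_lt_right Nat.card_pos ((Subgroup.one_lt_card_iff_ne_bot N).2 h)

end transport

/-- What is to be checked in the constrained sections. -/
def Base (p : ℕ) [Fact p.Prime] (𝔚 : Set (∀ (Q : Type u) [Group Q], Subgroup Q)) (G : Type u) [Group G] : Prop :=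
  ∀ (Y : Type u) [Group Y] [Finite Y], Involves Y G →
    Subgroup.centralizer (pCore p Y : Set Y) ≤ pCore p Y → (∀ H : Subgroup Y, H ≠ ⊤ → Ok p 𝔚 H) →
    ∀ T : Sylow p Y, pCore p Y ⊓ commutator Y ≤ tr 𝔚 (T : Subgroup Y)

/-- The inclusion of `S'` in the controlled part, in every section. -/
def Derived (p : ℕ) (𝔚 : Set (∀ (Q : Type u) [Group Q], Subgroup Q)) (G : Type u) [Group G] : Prop :=
  ∀ (Y : Type u) [Group Y] [Finite Y], Involves Y G → ∀ T : Sylow p Y,
    ⁅(T : Subgroup Y), (T : Subgroup Y)⁆ ≤ tr 𝔚 (T : Subgroup Y)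

theorem derived_of_mem (h𝔚 : ∀ W ∈ 𝔚, IsCharPFunctor p W) {W : ∀ (Q : Type u) [Group Q], Subgroup Q} (hW : W ∈ 𝔚)
    {G : Type u} [Group G] : Derived p 𝔚 G := fun _ _ _ _ T => derived_le_tr hW (h𝔚 W hW) T.2

theorem ok_of_base (h𝔚 : ∀ W ∈ 𝔚, IsCharPFunctor p W) {G : Type u} [Group G] [Finite G]
    (hd : Derived p 𝔚 G) (hbase : Base p 𝔚 G) : Ok p 𝔚 G := by
  suffices main : ∀ n, ∀ (X : Type u) [Group X] [Finite X], Nat.card X = n → Involves X G → Ok p 𝔚 X from
    main _ G rfl involves_self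
  intro n
  induction n using Nat.strong_induction_on with
  | h n ih =>
  intro X _ _ hn hX
  subst hn
  have trans : ∀ (Z : Type u) [Group Z], Involves Z X → Involves Z G := by
    intro Z _ hZ
    obtain ⟨K, R, hR, ⟨e⟩⟩ := hX
    exact involves_of_injective K.subtype K.subtype_injective (involves_of_quotientHom
      (e.toMonoidHom.comp (QuotientGroup.mk' (R.subgroupOf K)))
      (e.surjective.comp (QuotientGroup.mk'_surjective _)) hZ)
  have hsub : ∀ H : Subgroup X, H ≠ ⊤ → Ok p 𝔚 H := fun H hH =>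
    ih _ (card_lt_of_ne_top hH) H rfl (trans _ (involves_of_injective H.subtype H.subtype_injective involves_self))
  have hquot : ∀ (N : Subgroup X) [N.Normal], N ≠ ⊥ → Ok p 𝔚 (X ⧸ N) := fun N _ hN =>
    ih _ (card_quotient_lt hN) _ rfl
      (trans _ (involves_of_quotientHom (QuotientGroup.mk' N) (QuotientGroup.mk'_surjective N) involves_self))
  intro S
  by_cases hO : pPrimeCore p X ≠ ⊥
  · exact le_tr_of_coprime S h𝔚 _ (card_pPrimeCore_coprime p) (hquot _ hO)
  push Not at hO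
  have hd' := hd X hX S
  by_cases hQ : pCore p X = ⊥
  · exact le_tr_of_pCore_eq_bot S h𝔚 hd' hsub hQ
  refine le_tr_of_pCore S h𝔚 hsub (hquot _ hQ) ?_
  by_cases hcon : Subgroup.centralizer (pCore p X : Set X) ≤ pCore p X
  · exact hbase X hX hcon hsub S
  exact inf_commutator_le_of_commutator_le S hd' (pCore_le_sylow S) (commutator_core_le S h𝔚 hsub hO hcon)

/-- Statements about the sections of `G` transfer to what is involved in `G`. -/
theorem involves_elim {G : Type u} [Group G] [Finite G] {Y : Type u} [Group Y] [Finite Y] (hY : Involves Y G)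
    {P : Prop} (h : ∀ (K R : Subgroup G) [(R.subgroupOf K).Normal], (K ⧸ R.subgroupOf K ≃* Y) → P) : P := by
  obtain ⟨K, R, hR, ⟨e⟩⟩ := hY
  exact h K R e

theorem ok_sections (h𝔚 : ∀ W ∈ 𝔚, IsCharPFunctor p W) {G : Type u} [Group G] [Finite G]
    (hd : Derived p 𝔚 G) (hbase : Base p 𝔚 G) (K R : Subgroup G) [(R.subgroupOf K).Normal] :
    Ok p 𝔚 (K ⧸ R.subgroupOf K) :=
  ok_of_base h𝔚 (fun Y _ _ hY => hd Y (involves_of_section K R hY))
    (fun Y _ _ hY => hbase Y (involves_of_section K R hY))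

/-- Control in all constrained sections gives control everywhere. -/
theorem ok_of_constrained (h𝔚 : ∀ W ∈ 𝔚, IsCharPFunctor p W) {G : Type u} [Group G] [Finite G]
    (h : ∀ (Y : Type u) [Group Y] [Finite Y], Involves Y G →
      Subgroup.centralizer (pCore p Y : Set Y) ≤ pCore p Y → Ok p 𝔚 Y) : Ok p 𝔚 G := by
  refine ok_of_base h𝔚 (fun Y _ _ hY T => ?_)
    fun Y _ _ hY hcon _ T => (inf_le_inf_right _ (pCore_le_sylow T)).trans (h Y hY hcon T)
  have hcT : Subgroup.centralizer (pCore p (T : Subgroup Y) : Set (T : Subgroup Y)) ≤ pCore p (T : Subgroup Y) :=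
    le_top.trans (le_pCore (N := ⊤) (T.2.of_equiv Subgroup.topEquiv.symm))
  have hTG : Involves (T : Subgroup Y) G := by
    obtain ⟨K, R, hR, ⟨e⟩⟩ := hY
    exact involves_of_section K R (involves_of_injective (e.symm.toMonoidHom.comp (T : Subgroup Y).subtype)
      (e.symm.injective.comp (T : Subgroup Y).subtype_injective) involves_self)
  exact le_trans (le_inf (Subgroup.commutator_le_self _) le_rfl) (over_le h𝔚 T (h _ hTG hcT) le_rfl)

end CfsgLib.TransferControl
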