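import Cfsg.Agent.Lib.TransferControl.Degree
import Cfsg.Agent.Lib.KInf.Stable

/-!
Control of transfer from elements of degree `p - 1`, and the K-infinity subgroups for `p ≥ 5`.
-/

set_option autoImplicit false
set_option linter.unusedSectionVars false

namespace CfsgLib.TransferControl

open CfsgLib Cfsg CfsgLib.StrongFusion CfsgLib.KInf CfsgLib.WeakClosed
open scoped Pointwise commutatorElement

universe u

variable {p : ℕ} [hp : Fact p.Prime] {𝔚 : Set (∀ (Q : Type u) [Group Q], Subgroup Q)}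

section one

variable {X : Type u} [Group X] [Finite X]

theorem commutator_le_tr_of_good (S : Sylow p X) (h𝔚 : ∀ W ∈ 𝔚, IsCharPFunctor p W)
    (hsub : ∀ H : Subgroup X, H ≠ ⊤ → Ok p 𝔚 H)
    (hd : ⁅(S : Subgroup X), (S : Subgroup X)⁆ ≤ tr 𝔚 (S : Subgroup X))
    {g : X} (hg : g ∈ (S : Subgroup X)) (hgQ : g ∉ pCore p X) (hgood : Good p (pCore p X) g) :
    ⁅pCore p X, (⊤ : Subgroup X)⁆ ≤ tr 𝔚 (S : Subgroup X) := by
  have h := fix_of_degree S (Q := pCore p X) (T := tr 𝔚 (S : Subgroup X)) (pCore_le_sylow S) (tr_le 𝔚 _) hd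
    (fun H hSH hH h hh q hq => over_le h𝔚 S (hsub H hH) hSH ⟨pCore_le_sylow S (by
        rw [commutatorElement_def]
        exact mul_mem ((inferInstance : (pCore p X).Normal).conj_mem q hq h) (inv_mem hq)),
      Subgroup.commutator_mem_commutator hh (hSH (pCore_le_sylow S hq))⟩) hg hgQ hgood
  rw [Subgroup.commutator_le]
  intro q hq x _
  rw [← commutatorElement_inv]
  exact inv_mem (h x q hq)

theorem good_of_iterCommutator {Q : Subgroup X} {g : X}
    (h : ∀ U V : Subgroup X, IsChiefFactor U V → U ≤ Q → iterCommutator U (Subgroup.zpowers g) (p - 1) ≤ V) :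
    Good p Q g := fun U V hUV hU _ hu => h U V hUV hU (dl_mem_iterCommutator hu _)

theorem dl_add (g : X) (m n : ℕ) (u : X) : dl g (m + n) u = dl g m (dl g n u) := Function.iterate_add_apply _ _ _ _

/-- The witness for the K-infinity subgroups has degree at most four below `O_p`. -/
theorem exists_good_of_kInf (hp5 : 5 ≤ p) (S : Sylow p X)
    (hK : ¬ (inducedFunctor kInfLower (S : Subgroup X)).Normal ∨
      ¬ (inducedFunctor kInfUpper (S : Subgroup X)).Normal) :
    ∃ g ∈ (S : Subgroup X), g ∉ pCore p X ∧ Good p (pCore p X) g := by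
  obtain ⟨A, hA, -, -, hcen⟩ := exists_crit (G := X) (p := p)
  obtain ⟨g, hgS, hgT, h3, h2, -⟩ := witness_of_not_normal S hA hK
  refine ⟨g, hgS, hgT, fun U V hUV hU u hu => ?_⟩
  haveI := hA.normal
  set Z := A ⊓ Subgroup.centralizer (A : Set X)
  haveI : Z.Normal := inferInstanceAs (A ⊓ Subgroup.centralizer (A : Set X)).Normal
  have hiter : ∀ (B C : Subgroup X), B ≤ C → ∀ n, iterCommutator B (Subgroup.zpowers g) n ≤
      iterCommutator C (Subgroup.zpowers g) n := by
    intro B C hBC n
    induction n with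
    | zero => exact hBC
    | succ n ih => exact Subgroup.commutator_mono ih le_rfl
  have hiterU : ∀ (B : Subgroup X), B.Normal → ∀ n, iterCommutator B (Subgroup.zpowers g) n ≤ B := by
    intro B hB n
    induction n with
    | zero => exact le_rfl
    | succ n ih => exact (Subgroup.commutator_mono ih le_rfl).trans (Subgroup.commutator_le_left _ _)
  have hb := degree_bound (P := pCore p X) (Q := A) hA.pGroup hA.le hA.three hcen (g := g) (i := 3) (j := 2)
    (by norm_num) (by norm_num) ?_ ?_ hUV hU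
  · obtain ⟨m, hm⟩ : ∃ m, p - 1 = m + 4 := ⟨p - 5, by omega⟩
    haveI := hUV.2.2.1
    rw [hm, dl_add]
    exact dl_mem g (hb (dl_mem_iterCommutator hu 4)) m
  · intro U V hUV hUA
    obtain ⟨hlt, hUn, hVn, hch⟩ := hUV
    haveI := hUn
    haveI := hVn
    rcases hch (U ⊓ Z ⊔ V) (Subgroup.sup_normal _ _) le_sup_right (sup_le inf_le_left hlt.le) with e | e
    · refine le_trans ?_ ((le_sup_left).trans e.le)
      exact le_inf (hiterU U hUn 3) ((hiter U A hUA 3).trans h3)
    · refine iterCommutator_le_of_dl ((Subgroup.commutator_mono le_rfl (hUA.trans hA.le)).trans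
        (commutator_le_of_chief hA.pGroup ⟨hlt, hUn, hVn, hch⟩ (hUA.trans hA.le))) fun u hu => ?_
      have hu' := e.ge hu
      rw [← SetLike.mem_coe, Subgroup.mul_normal] at hu'
      obtain ⟨a, ha, b, hb, rfl⟩ := hu'
      refine (QuotientGroup.eq_one_iff _).1 ?_
      show QuotientGroup.mk' V (dl g 3 (a * b)) = 1
      rw [map_dl, map_mul, show QuotientGroup.mk' V b = 1 from (QuotientGroup.eq_one_iff b).2 hb, mul_one, ← map_dl,
        show (3 : ℕ) = 1 + 2 from rfl, dl_add,
        show dl g 2 a = 1 from Subgroup.mem_bot.1 (h2.le (dl_mem_iterCommutator (U := Z) ha.2 2)), dl_one_right, map_one]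
  · intro U V hUV hUZ
    exact (hiter U Z hUZ 2).trans (h2.le.trans bot_le)

end one

theorem chief_map_equiv {Z Y : Type*} [Group Z] [Group Y] (e : Z ≃* Y) {U V : Subgroup Z} (h : IsChiefFactor U V) :
    IsChiefFactor (U.map e.toMonoidHom) (V.map e.toMonoidHom) := by
  have hf : Function.Injective e.toMonoidHom := e.injective
  refine ⟨(Subgroup.map_lt_map_iff_of_injective hf).2 h.1, h.2.1.map _ e.surjective, h.2.2.1.map _ e.surjective,
    fun N hN hVN hNU => ?_⟩
  have e1 : (N.comap e.toMonoidHom).map e.toMonoidHom = N := Subgroup.map_comap_eq_self_of_surjective e.surjective N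
  rw [← e1] at hVN hNU ⊢
  rcases h.2.2.2 (N.comap e.toMonoidHom) (hN.comap _) ((Subgroup.map_le_map_iff_of_injective hf).1 hVN)
    ((Subgroup.map_le_map_iff_of_injective hf).1 hNU) with h' | h'
  · exact .inl (congrArg _ h')
  · exact .inr (congrArg _ h')

theorem good_equiv {Z Y : Type*} [Group Z] [Group Y] [Finite Z] [Finite Y] (e : Z ≃* Y) {g : Z}
    (h : Good p (pCore p Z) g) : Good p (pCore p Y) (e g) := by
  intro U V hUV hU u hu
  have h1 := h _ _ (chief_map_equiv e.symm hUV) ((Subgroup.map_mono hU).trans (pCore_map_equiv p e.symm).le)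
    (e.symm u) ⟨u, hu, rfl⟩
  obtain ⟨v, hv, hve⟩ := h1
  have h2 := congrArg e hve
  rw [show e (dl g (p - 1) (e.symm u)) = dl (e g) (p - 1) (e (e.symm u)) from map_dl e.toMonoidHom g _ _] at h2
  simp at h2
  exact h2 ▸ hv

/-- Elements of degree `p - 1` in the constrained sections where `W` is not normal give `Base`. -/
theorem base_of_good {G : Type u} [Group G] [Finite G] {W : ∀ (Q : Type u) [Group Q], Subgroup Q}
    (hW : IsCharPFunctor p W)
    (h : ∀ (Y : Type u) [Group Y] [Finite Y], Involves Y G →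
      Subgroup.centralizer (pCore p Y : Set Y) ≤ pCore p Y → ∀ T : Sylow p Y,
      ¬ (inducedFunctor W (T : Subgroup Y)).Normal → ∃ g ∈ (T : Subgroup Y), g ∉ pCore p Y ∧ Good p (pCore p Y) g) :
    Base p {W} G := by
  have h𝔚 : ∀ W' ∈ ({W} : Set (∀ (Q : Type u) [Group Q], Subgroup Q)), IsCharPFunctor p W' := by
    rintro W' rfl; exact hW
  intro Y _ _ hY hcon hsub T
  by_cases hn : (inducedFunctor W (T : Subgroup Y)).Normal
  · haveI := hn
    rw [tr_singleton, Subgroup.normalizer_eq_top]
    exact inf_le_inf_right _ (pCore_le_sylow T)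
  obtain ⟨g, hg, hgQ, hgood⟩ := h Y hY hcon T hn
  have hd := derived_le_tr (𝔚 := {W}) rfl hW T.2
  exact inf_commutator_le_of_commutator_le T hd (pCore_le_sylow T)
    (commutator_le_tr_of_good T h𝔚 hsub hd hg hgQ hgood)


/-- The K-infinity subgroups control transfer for `p ≥ 5`. -/
theorem ok_kInf (hp5 : 5 ≤ p) {W : ∀ (Q : Type u) [Group Q], Subgroup Q} (hW : W = kInfLower ∨ W = kInfUpper)
    (G : Type u) [Group G] [Finite G] : Ok p {W} G := by
  have hW' : IsCharPFunctor p W := by
    rcases hW with rfl | rfl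
    exacts [(KInf.isCharPFunctor p).1, (KInf.isCharPFunctor p).2]
  have h𝔚 : ∀ W' ∈ ({W} : Set (∀ (Q : Type u) [Group Q], Subgroup Q)), IsCharPFunctor p W' := by
    rintro W' rfl; exact hW'
  refine ok_of_base h𝔚 (derived_of_mem h𝔚 rfl) (base_of_good hW' ?_)
  intro Y _ _ _ _ T hn
  exact exists_good_of_kInf hp5 T (by rcases hW with rfl | rfl; exacts [Or.inl hn, Or.inr hn])

end CfsgLib.TransferControl
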