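import Cfsg.Agent.Lib.TransferControl.Basic
import Mathlib.GroupTheory.Focal

/-!
Control of transfer: from normalizers of a good class of fully normalized subgroups to the whole group.
-/

set_option autoImplicit false
set_option linter.unusedSectionVars false

namespace CfsgLib.TransferControl

open CfsgLib Cfsg CfsgLib.StrongFusion
open scoped Pointwise commutatorElement

variable {G : Type*} [Group G] [Finite G] {p : ℕ} [Fact p.Prime]

/-- The part of `T` seen inside `H` by a family of functors. -/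
def part (𝓦 : Set (Subgroup G → Subgroup G)) (H T : Subgroup G) : Subgroup G :=
  ⨆ W ∈ 𝓦, T ⊓ ⁅H ⊓ Subgroup.normalizer ((W T : Subgroup G) : Set G), H ⊓ Subgroup.normalizer ((W T : Subgroup G) : Set G)⁆

theorem part_le {𝓦 : Set (Subgroup G → Subgroup G)} (H T : Subgroup G) : part 𝓦 H T ≤ T ⊓ ⁅H, H⁆ :=
  iSup₂_le fun _ _ => inf_le_inf_left _ (Subgroup.commutator_mono inf_le_left inf_le_left)

/-- The local hypothesis at a prescribed Sylow subgroup of `H`. -/
theorem inf_commutator_eq_part {𝓦 : Set (Subgroup G → Subgroup G)} (h𝓦 : ∀ W ∈ 𝓦, IsConjugacyFunctor p W)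
    {H T : Subgroup G} (h : FamilyControlsTransferIn p 𝓦 H) (hT : T ≤ H) (hTp : IsPGroup p T)
    (hidx : ¬ p ∣ T.relIndex H) : T ⊓ ⁅H, H⁆ = part 𝓦 H T := by
  obtain ⟨T₀, hT₀, hT₀p, hidx₀, heq⟩ := h
  obtain ⟨m, hm, hmT⟩ := exists_conj_le hT hTp hidx hT₀ hT₀p
  obtain ⟨m', hm', hmT'⟩ := exists_conj_le hT₀ hT₀p hidx₀ hT hTp
  have hTT : cm m T₀ = T := Subgroup.eq_of_le_of_card_ge hmT (by
    rw [card_cm]; exact card_cm m' T ▸ Subgroup.card_le_of_le hmT')
  have hH : cm m H = H := Local.map_conj_eq_of_mem_normalizer (Subgroup.le_normalizer hm)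
  have e1 : cm m (T₀ ⊓ ⁅H, H⁆) = T ⊓ ⁅H, H⁆ := by
    show Subgroup.map (MulAut.conj m).toMonoidHom (T₀ ⊓ ⁅H, H⁆) = _
    rw [Subgroup.map_inf _ _ _ (MulAut.conj m).injective, Subgroup.map_commutator]
    exact congrArg₂ (· ⊓ ·) hTT (congrArg₂ (fun a b => ⁅a, b⁆) hH hH)
  rw [← e1, heq]
  show Subgroup.map (MulAut.conj m).toMonoidHom _ = part 𝓦 H T
  simp only [part, Subgroup.map_iSup]
  refine iSup_congr fun W => iSup_congr fun hW => ?_
  have hN : cm m (H ⊓ Subgroup.normalizer ((W T₀ : Subgroup G) : Set G)) =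
      H ⊓ Subgroup.normalizer ((W T : Subgroup G) : Set G) := by
    show Subgroup.map (MulAut.conj m).toMonoidHom _ = _
    rw [Subgroup.map_inf _ _ _ (MulAut.conj m).injective,
      Subgroup.map_normalizer_eq_of_bijective (W T₀) (f := (MulAut.conj m).toMonoidHom) (MulAut.conj m).bijective,
      ← (h𝓦 W hW T₀ hT₀p).2.2 m]
    exact congrArg₂ (· ⊓ ·) hH (congrArg (fun a : Subgroup G => Subgroup.normalizer ((W a : Subgroup G) : Set G)) hTT)
  rw [Subgroup.map_inf _ _ _ (MulAut.conj m).injective, Subgroup.map_commutator]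
  exact congrArg₂ (· ⊓ ·) hTT (congrArg₂ (fun a b => ⁅a, b⁆) hN hN)

/-- **From local to global control of transfer.** -/
theorem inf_commutator_le_of_good (P : Sylow p G) (𝓦 : Set (Subgroup G → Subgroup G))
    (h𝓦 : ∀ W ∈ 𝓦, IsConjugacyFunctor p W) (Good : Subgroup G → Prop)
    (hgood : ∀ U ≤ (P : Subgroup G), ∃ y, cm y ((P : Subgroup G) ⊓ Subgroup.normalizer (U : Set G)) ≤ (P : Subgroup G) ∧
      Good (cm y U))
    (hfull : ∀ U ≤ (P : Subgroup G), Good U → Full p (P : Subgroup G) U)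
    (hloc : ∀ U ≤ (P : Subgroup G), U ≠ ⊥ → Good U →
      FamilyControlsTransferIn p 𝓦 (Subgroup.normalizer (U : Set G))) :
    (P : Subgroup G) ⊓ commutator G ≤ part 𝓦 ⊤ (P : Subgroup G) := by
  set M := part 𝓦 ⊤ (P : Subgroup G) with hM
  -- both claims at level `k`
  have key : ∀ d k : ℕ, Nat.card G - k = d →
      (∀ (A : Subgroup G) (g : G), k ≤ Nat.card A → A ≤ (P : Subgroup G) → cm g A ≤ (P : Subgroup G) → Fx M A g) ∧
      (∀ U ≤ (P : Subgroup G), U ≠ ⊥ → Good U → k ≤ Nat.card ↥((P : Subgroup G) ⊓ Subgroup.normalizer (U : Set G)) →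
        (P : Subgroup G) ⊓ Subgroup.normalizer (U : Set G) ⊓
          ⁅Subgroup.normalizer (U : Set G), Subgroup.normalizer (U : Set G)⁆ ≤ M) := by
    intro d
    induction d using Nat.strong_induction_on with
    | h d ih =>
    intro k hd
    have hlt : ∀ n, k < n → n ≤ Nat.card G → Nat.card G - n < d := fun n h1 h2 => by omega
    have cardG : ∀ A : Subgroup G, Nat.card A ≤ Nat.card G := fun A =>
      Nat.le_of_dvd Nat.card_pos A.card_subgroup_dvd_card
    have big1 : ∀ (A : Subgroup G) (g : G), k < Nat.card A → A ≤ (P : Subgroup G) → cm g A ≤ (P : Subgroup G) →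
        Fx M A g := fun A g hA h1 h2 => (ih _ (hlt _ hA (cardG A)) _ rfl).1 A g le_rfl h1 h2
    have big2 : ∀ U ≤ (P : Subgroup G), U ≠ ⊥ → Good U →
        k < Nat.card ↥((P : Subgroup G) ⊓ Subgroup.normalizer (U : Set G)) →
        (P : Subgroup G) ⊓ Subgroup.normalizer (U : Set G) ⊓
          ⁅Subgroup.normalizer (U : Set G), Subgroup.normalizer (U : Set G)⁆ ≤ M :=
      fun U h1 h2 h3 hk => (ih _ (hlt _ hk (cardG _)) _ rfl).2 U h1 h2 h3 le_rfl
    have second : ∀ U ≤ (P : Subgroup G), U ≠ ⊥ → Good U →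
        k ≤ Nat.card ↥((P : Subgroup G) ⊓ Subgroup.normalizer (U : Set G)) →
        (P : Subgroup G) ⊓ Subgroup.normalizer (U : Set G) ⊓
          ⁅Subgroup.normalizer (U : Set G), Subgroup.normalizer (U : Set G)⁆ ≤ M := by
      intro U hU hU0 hUg hk
      rcases lt_or_eq_of_le hk with hk | hk
      · exact big2 U hU hU0 hUg hk
      set T := (P : Subgroup G) ⊓ Subgroup.normalizer (U : Set G) with hT
      have hTP : T ≤ (P : Subgroup G) := inf_le_left
      rw [inf_commutator_eq_part h𝓦 (hloc U hU hU0 hUg) inf_le_right (P.2.to_le hTP) (hfull U hU hUg)]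
      refine iSup₂_le fun W hW => ?_
      rw [← hT]
      by_cases hTP' : T = (P : Subgroup G)
      · rw [hTP']
        refine le_trans ?_ (le_iSup₂ W hW)
        exact inf_le_inf_left _ (Subgroup.commutator_mono (inf_le_inf_right _ le_top) (inf_le_inf_right _ le_top))
      have hT0 : T ≠ ⊥ := fun h => hU0 (le_bot_iff.1 (h ▸ le_inf hU Subgroup.le_normalizer))
      obtain ⟨hWT, hW0, hWn⟩ := hW_of_isConjugacyFunctor P (h𝓦 W hW) hTP hT0
      set U' := W T with hU'
      set T' := (P : Subgroup G) ⊓ Subgroup.normalizer (U' : Set G) with hT'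
      have hTT' : T < T' := (lt_inf_normalizer P hTP hTP').trans_le (le_inf inf_le_left hWn)
      have hTT'c : k < Nat.card T' := hk ▸
        lt_of_le_of_ne (Subgroup.card_le_of_le hTT'.le) fun h => hTT'.ne (Subgroup.eq_of_le_of_card_ge hTT'.le h.ge)
      obtain ⟨y, hy, hyg⟩ := hgood U' (hWT.trans hTP)
      have hyT' := cm_inf_normalizer_le y hy
      set U'' := cm y U' with hU''
      have hU''P : U'' ≤ (P : Subgroup G) :=
        (cm_mono (le_inf (hWT.trans hTP) Subgroup.le_normalizer)).trans hy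
      have hU''0 : U'' ≠ ⊥ := fun h =>
        hW0 ((Subgroup.map_eq_bot_iff_of_injective U' (MulAut.conj y).injective).1 h)
      have hbig := big2 U'' hU''P hU''0 hyg (lt_of_lt_of_le hTT'c (card_cm y T' ▸ Subgroup.card_le_of_le hyT'))
      rintro x ⟨hxT, hxC⟩
      refine mem_of_fx (big1 T' y hTT'c inf_le_left hy x (hTT'.le hxT))
        (hbig ⟨hyT' (conj_mem_cm (hTT'.le hxT)), conj_mem_commutator (fun l hl => ?_) hxC⟩)
      refine Local.mem_normalizer_of_map_conj_eq ?_
      show cm (y * l * y⁻¹) (cm y U') = cm y U'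
      rw [cm_cm, show y * l * y⁻¹ * y = y * l by group, ← cm_cm]
      exact congrArg (cm y) (Local.map_conj_eq_of_mem_normalizer hl.2)
    refine ⟨?_, second⟩
    intro A g hkA hA hg
    rcases lt_or_eq_of_le hkA with hkA | hkA
    · exact big1 A g hkA hA hg
    rcases eq_or_ne A ⊥ with rfl | hA0
    · intro a ha
      rw [Subgroup.mem_bot.1 ha, commutatorElement_one_right]
      exact one_mem _
    have haut : ∀ V ≤ (P : Subgroup G), Nat.card V = Nat.card A → Good V → ∀ w ∈ Subgroup.normalizer (V : Set G),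
        Fx M V w := by
      intro V hV hVc hVg w hw a ha
      have hV0 : V ≠ ⊥ := fun h => hA0 (Subgroup.eq_bot_of_card_eq _ (by rw [← hVc, h, Subgroup.card_bot]))
      have hle : V ≤ (P : Subgroup G) ⊓ Subgroup.normalizer (V : Set G) := le_inf hV Subgroup.le_normalizer
      refine second V hV hV0 hVg ((hkA.trans hVc.symm).le.trans (Subgroup.card_le_of_le hle))
        ⟨hle ?_, Subgroup.commutator_mem_commutator hw (Subgroup.le_normalizer ha)⟩
      rw [commutatorElement_def]
      exact mul_mem ((Subgroup.mem_normalizer_iff.1 hw a).1 ha) (inv_mem ha)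
    by_cases hAP : A = (P : Subgroup G)
    · obtain ⟨y, hy, hyg⟩ := hgood A hA
      have hA' : cm y A = A := Subgroup.eq_of_le_of_card_ge
        (((cm_mono (le_inf hA Subgroup.le_normalizer)).trans hy).trans hAP.ge) (card_cm y A).ge
      rw [hA'] at hyg
      exact haut A hA rfl hyg g (Local.mem_normalizer_of_map_conj_eq
        (Subgroup.eq_of_le_of_card_ge (hg.trans hAP.ge) (card_cm g A).ge))
    have hlarge : ∀ C : Subgroup G, C ≤ (P : Subgroup G) → Nat.card C = Nat.card A →
        k < Nat.card ↥((P : Subgroup G) ⊓ Subgroup.normalizer (C : Set G)) := by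
      intro C hC hc
      have hne : C ≠ (P : Subgroup G) := fun h => hAP (Subgroup.eq_of_le_of_card_ge hA (by rw [← hc, h]))
      have h := lt_inf_normalizer P hC hne
      rw [hkA, ← hc]
      exact lt_of_le_of_ne (Subgroup.card_le_of_le h.le) fun e => h.ne (Subgroup.eq_of_le_of_card_ge h.le e.ge)
    obtain ⟨y₁, hy₁, hVg⟩ := hgood A hA
    set V := cm y₁ A with hV
    have hVP : V ≤ (P : Subgroup G) := (cm_mono (le_inf hA Subgroup.le_normalizer)).trans hy₁
    have hchA : Fx M A y₁ :=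
      (big1 _ y₁ (hlarge A hA rfl) inf_le_left hy₁).mono (le_inf hA Subgroup.le_normalizer)
    set TB := (P : Subgroup G) ⊓ Subgroup.normalizer (cm g A : Set G) with hTB
    set z := y₁ * g⁻¹ with hz
    have hzB : cm z (cm g A) = V := by rw [cm_cm, hz, inv_mul_cancel_right]
    obtain ⟨w, hwN, hw⟩ := exists_conj_le (Q := (P : Subgroup G) ⊓ Subgroup.normalizer (V : Set G)) inf_le_right
      (P.2.to_le inf_le_left) (hfull V hVP hVg) (R := cm z TB)
      (Local.map_conj_le fun x hx => Local.mem_normalizer_of_map_conj_eq (by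
        show cm (z * x * z⁻¹) V = V
        rw [← hzB, cm_cm, show z * x * z⁻¹ * z = z * x by group, ← cm_cm]
        exact congrArg (cm z) (Local.map_conj_eq_of_mem_normalizer hx.2)))
      ((P.2.to_le inf_le_left).map _)
    have hwz : cm (w * z) TB ≤ (P : Subgroup G) := by rw [← cm_cm]; exact hw.trans inf_le_left
    have hchB : Fx M (cm g A) (w * z) :=
      (big1 TB (w * z) (hlarge _ hg (card_cm g A)) inf_le_left hwz).mono (le_inf hg Subgroup.le_normalizer)
    have hRV := haut V hVP (card_cm y₁ A) hVg w hwN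
    have hwV : cm w V = V := Local.map_conj_eq_of_mem_normalizer hwN
    have h3 := hchB.inv
    rw [← cm_cm, hzB, hwV] at h3
    have h4 : Fx M A ((w * z)⁻¹ * (w * y₁)) := by
      refine (hchA.comp hRV).comp ?_
      rw [← cm_cm, hwV]
      exact h3
    rwa [show (w * z)⁻¹ * (w * y₁) = g by rw [hz]; group] at h4
  obtain ⟨hfx, hsec⟩ := key _ 0 rfl
  rcases eq_or_ne (P : Subgroup G) ⊥ with hP | hP
  · exact inf_le_left.trans (hP.le.trans bot_le)
  -- the derived subgroup of `P`
  obtain ⟨y, hy, hyg⟩ := hgood (P : Subgroup G) le_rfl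
  have hP' : cm y (P : Subgroup G) = (P : Subgroup G) := Subgroup.eq_of_le_of_card_ge
    ((cm_mono (le_inf le_rfl Subgroup.le_normalizer)).trans hy) (card_cm y _).ge
  rw [hP'] at hyg
  have hd : ⁅(P : Subgroup G), (P : Subgroup G)⁆ ≤ M := le_trans
    (le_inf ((Subgroup.commutator_le_self _).trans (le_inf le_rfl Subgroup.le_normalizer))
      (Subgroup.commutator_mono Subgroup.le_normalizer Subgroup.le_normalizer))
    (hsec (P : Subgroup G) le_rfl hP hyg (Nat.zero_le _))
  rw [inf_comm, Subgroup.commutator_inf_eq_focalSubgroup, Subgroup.focalSubgroup_def, Subgroup.closure_le]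
  rintro _ ⟨hg, x, hx, u, rfl⟩
  have hux : u * x⁻¹ * u⁻¹ ∈ (P : Subgroup G) := by
    have := mul_mem (inv_mem hx) hg
    rwa [show x⁻¹ * ⁅x, u⁆ = u * x⁻¹ * u⁻¹ by simp only [commutatorElement_def]; group] at this
  have h1 := hfx (Subgroup.zpowers x⁻¹) u (Nat.zero_le _) (Subgroup.zpowers_le.2 (inv_mem hx)) (by
    rintro _ ⟨a, ha, rfl⟩
    obtain ⟨j, rfl⟩ := Subgroup.mem_zpowers_iff.1 ha
    show u * x⁻¹ ^ j * u⁻¹ ∈ (P : Subgroup G)
    rw [← conj_zpow]; exact zpow_mem hux j) x⁻¹ (Subgroup.mem_zpowers _)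
  have h2 := conj_mem_of_derived_le ((part_le ⊤ _).trans inf_le_left) hd hx h1
  rwa [show x * ⁅u, x⁻¹⁆ * x⁻¹ = ⁅x, u⁆ by simp only [commutatorElement_def]; group] at h2

/-- The printed form. -/
theorem familyControls_of_good (P : Sylow p G) (𝓦 : Set (Subgroup G → Subgroup G))
    (h𝓦 : ∀ W ∈ 𝓦, IsConjugacyFunctor p W) (Good : Subgroup G → Prop)
    (hgood : ∀ U ≤ (P : Subgroup G), ∃ y, cm y ((P : Subgroup G) ⊓ Subgroup.normalizer (U : Set G)) ≤ (P : Subgroup G) ∧
      Good (cm y U))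
    (hfull : ∀ U ≤ (P : Subgroup G), Good U → Full p (P : Subgroup G) U)
    (hloc : ∀ U ≤ (P : Subgroup G), U ≠ ⊥ → Good U →
      FamilyControlsTransferIn p 𝓦 (Subgroup.normalizer (U : Set G))) :
    FamilyControlsTransferIn p 𝓦 ⊤ :=
  ⟨P, le_top, P.2, by rw [Subgroup.relIndex_top_right]; exact P.not_dvd_index,
    le_antisymm (inf_commutator_le_of_good P 𝓦 h𝓦 Good hgood hfull hloc) (part_le ⊤ _)⟩

end CfsgLib.TransferControl
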