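import Cfsg.Agent.Lib.Elementary
import Cfsg.Agent.Lib.ConjProduct
import Mathlib.Algebra.BigOperators.Group.Finset.Basic
import Mathlib.GroupTheory.GroupAction.Basic

/-!
Orbits of a `p`-group split along a maximal subgroup.
-/

set_option autoImplicit false
set_option linter.unusedSectionVars false

namespace CfsgLib.TransferControl

open CfsgLib

variable {G : Type*} [Group G] {α : Type*} [MulAction G α] [Finite α]

/-- The orbit of `w` under a subgroup. -/
noncomputable def orb (X : Subgroup G) (w : α) : Finset α :=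
  (Set.toFinite {v : α | ∃ t ∈ X, t • w = v}).toFinset

theorem mem_orb {X : Subgroup G} {w v : α} : v ∈ orb X w ↔ ∃ t ∈ X, t • w = v := by simp [orb]

theorem self_mem_orb (X : Subgroup G) (w : α) : w ∈ orb X w := mem_orb.2 ⟨1, X.one_mem, one_smul _ _⟩

theorem orb_subset {X : Subgroup G} {w : α} {s : Finset α} (hw : w ∈ s)
    (hs : ∀ t ∈ X, ∀ v ∈ s, t • v ∈ s) : orb X w ⊆ s := fun v hv => by
  obtain ⟨t, ht, rfl⟩ := mem_orb.1 hv
  exact hs t ht w hw

theorem stable_sdiff [DecidableEq α] {X : Subgroup G} {w : α} {s : Finset α}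
    (hs : ∀ t ∈ X, ∀ v ∈ s, t • v ∈ s) {t : G} (ht : t ∈ X) {v : α}
    (hv : v ∈ s \ orb X w) : t • v ∈ s \ orb X w := by
  rw [Finset.mem_sdiff] at hv ⊢
  refine ⟨hs t ht v hv.1, fun h => hv.2 ?_⟩
  obtain ⟨u, hu, e⟩ := mem_orb.1 h
  exact mem_orb.2 ⟨t⁻¹ * u, mul_mem (inv_mem ht) hu, by rw [mul_smul, e, inv_smul_smul]⟩

theorem exists_step [Finite G] {p : ℕ} [Fact p.Prime] {X : Subgroup G} (hX : IsPGroup p X) {w : α}
    (hw : ∃ t ∈ X, t • w ≠ w) :
    ∃ M : Subgroup G, M ≤ X ∧ (∀ t ∈ X, t • w = w → t ∈ M) ∧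
      (M.subgroupOf X).Normal ∧ (M.subgroupOf X).index = p := by
  obtain ⟨t, ht, htw⟩ := hw
  rcases eq_top_or_exists_le_coatom ((MulAction.stabilizer G w).subgroupOf X) with h | ⟨M, hM, hle⟩
  · exact absurd (Subgroup.mem_subgroupOf.1 (h.symm ▸ Subgroup.mem_top (⟨t, ht⟩ : X))) htw
  obtain ⟨hn, hi⟩ := index_coatom_pGroup hX hM
  have e : (M.map X.subtype).subgroupOf X = M := Subgroup.comap_map_eq_self_of_injective X.subtype_injective M
  refine ⟨M.map X.subtype, Subgroup.map_subtype_le M,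
    fun s hs hsw => ⟨⟨s, hs⟩, hle (Subgroup.mem_subgroupOf.2 hsw), rfl⟩, ?_, ?_⟩
  · rw [e]; exact hn
  · rw [e]; exact hi

/-- The orbit under `X` is the disjoint union of the `p` translates of the orbit under `M`. -/
theorem prod_orb_step {p : ℕ} [Fact p.Prime] {X M : Subgroup G} {w : α} {a : G} [(M.subgroupOf X).Normal]
    (hMX : M ≤ X) (hst : ∀ t ∈ X, t • w = w → t ∈ M) (hidx : (M.subgroupOf X).index = p) (ha : a ∈ X)
    (haM : a ∉ M) :
    (orb X w).card = p * (orb M w).card ∧ ∀ {A : Type*} [CommMonoid A] (f : α → A),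
      (∏ v ∈ orb X w, f v) = ∏ v ∈ orb M w, ∏ i ∈ Finset.range p, f (a ^ i • v) := by
  classical
  set N := M.subgroupOf X
  set qa : X ⧸ N := QuotientGroup.mk ⟨a, ha⟩ with hqa
  have hcard : Nat.card (X ⧸ N) = p := hidx
  have hne : qa ≠ 1 := fun e => haM (Subgroup.mem_subgroupOf.1 ((QuotientGroup.eq_one_iff _).1 e))
  have hord : orderOf qa = p := orderOf_eq_prime (by rw [← hcard]; exact pow_card_eq_one') hne
  have hinj : ∀ i < p, ∀ j < p, ∀ v ∈ orb M w, ∀ v' ∈ orb M w, a ^ i • v = a ^ j • v' → i = j := by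
    intro i hi j hj v hv v' hv' e
    obtain ⟨m, hm, rfl⟩ := mem_orb.1 hv
    obtain ⟨m', hm', rfl⟩ := mem_orb.1 hv'
    have h1 : ((a ^ j * m')⁻¹ * (a ^ i * m)) • w = w := by
      rw [mul_smul, mul_smul (a ^ i), e, ← mul_smul (a ^ j), inv_smul_smul]
    have h2 := hst _ (mul_mem (inv_mem (mul_mem (pow_mem ha j) (hMX hm'))) (mul_mem (pow_mem ha i) (hMX hm))) h1
    have h3 : (a ^ j)⁻¹ * a ^ i ∈ M := by
      have := mul_mem (mul_mem hm' h2) (inv_mem hm)
      simpa [mul_assoc] using this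
    refine pow_injOn_Iio_orderOf (x := qa) (by simpa [hord] using hi) (by simpa [hord] using hj) ?_
    show qa ^ i = qa ^ j
    rw [hqa, ← QuotientGroup.mk_pow, ← QuotientGroup.mk_pow, eq_comm, QuotientGroup.eq,
      Subgroup.mem_subgroupOf]
    simpa using h3
  have hset : orb X w = (Finset.range p).biUnion (fun i => (orb M w).image (fun v => a ^ i • v)) := by
    ext v
    simp only [Finset.mem_biUnion, Finset.mem_range, Finset.mem_image]
    constructor
    · intro hv
      obtain ⟨t, ht, rfl⟩ := mem_orb.1 hv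
      obtain ⟨i, hi⟩ := mem_powers_of_prime_card (p := p) hcard (g' := (QuotientGroup.mk ⟨t, ht⟩ : X ⧸ N)) hne
      have hi' : qa ^ (i % p) = QuotientGroup.mk ⟨t, ht⟩ := by
        rw [← hord, pow_mod_orderOf]; exact hi
      rw [hqa, ← QuotientGroup.mk_pow, QuotientGroup.eq, Subgroup.mem_subgroupOf] at hi'
      refine ⟨i % p, Nat.mod_lt _ (Fact.out : p.Prime).pos, _,
        mem_orb.2 ⟨(a ^ (i % p))⁻¹ * t, by simpa using hi', rfl⟩, ?_⟩
      rw [← mul_smul, mul_inv_cancel_left]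
    · rintro ⟨i, _, u, hu, rfl⟩
      obtain ⟨m, hm, rfl⟩ := mem_orb.1 hu
      exact mem_orb.2 ⟨a ^ i * m, mul_mem (pow_mem ha i) (hMX hm), mul_smul _ _ _⟩
  have hdisj : Set.PairwiseDisjoint ↑(Finset.range p) (fun i => (orb M w).image (fun v => a ^ i • v)) := by
    intro i hi j hj hij
    refine Finset.disjoint_left.2 fun v hv hv' => hij ?_
    obtain ⟨u, hu, rfl⟩ := Finset.mem_image.1 hv
    obtain ⟨u', hu', e⟩ := Finset.mem_image.1 hv'
    exact hinj i (Finset.mem_range.1 hi) j (Finset.mem_range.1 hj) u hu u' hu' e.symm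
  refine ⟨?_, fun f => ?_⟩
  · rw [hset, Finset.card_biUnion hdisj, Finset.sum_congr rfl fun i _ =>
      Finset.card_image_of_injective _ (MulAction.injective (a ^ i)), Finset.sum_const, Finset.card_range, smul_eq_mul]
  · rw [hset, Finset.prod_biUnion hdisj, Finset.prod_comm]
    exact Finset.prod_congr rfl fun i _ => Finset.prod_image fun u _ u' _ e => MulAction.injective (a ^ i) e

end CfsgLib.TransferControl
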